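import Groth.Agent.Pic13Lib.NumInv
import Groth.Agent.Pic13Lib.DegSection
import Groth.Agent.Pic13Lib.Linear
import Groth.Agent.VarReg31.Slice
import Groth.Agent.InvX.GenLocusPull
import Groth.Agent.SurfInt.Surface
import Groth.Agent.SurfInt.Sections
import Groth.Agent.Pn90.Rank

/-!
# Sections of `O(1)` at a point; numerically trivial modules form a group stable under restriction
-/

set_option linter.style.haveILetI false
set_option linter.unusedSectionVars false
set_option backward.isDefEq.respectTransparency false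
set_option backward.isDefEq.respectTransparency.types false
set_option maxHeartbeats 1000000

universe u

open CategoryTheory CategoryTheory.Limits AlgebraicGeometry TopologicalSpace Opposite
open scoped Groth.Agent.H23.PicMul

noncomputable section

namespace Groth.Agent.VarNum31

open Groth.Agent Groth.Agent.Pic13Lib

/-- A section generating the stalk does not vanish there. -/
theorem mem_genLocus_of_stalk {Z : Scheme.{u}} {L : Z.Modules} (hL : PicF.IsInvertible L)
    (s : Coh.structureModule Z ⟶ L) {x : Z} (h : Function.Surjective (CycLib.stalkLin s x)) :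
    x ∈ CohB1.genLocus L s := by
  obtain ⟨U, hx, e, he⟩ := InvX.exists_frame hL x
  obtain ⟨g, hg⟩ := he.exists_coord le_rfl (AModX.res L (le_top : U ≤ ⊤) (InvX.one s))
  rw [AModX.res_self] at hg
  rw [AmpleX.mem_genLocus_iff s he hg hx]
  obtain ⟨a, ha⟩ := h (L.presheaf.germ U x hx e)
  obtain ⟨W, hxW, r, rfl⟩ := (Coh.structureModule Z).presheaf.exists_germ_eq (x := x) a
  let r' : Γ(Z, W) := r
  have h1 : CycLib.stalkLin s x ((Coh.structureModule Z).presheaf.germ W x hxW r) =
      L.presheaf.germ W x hxW (r' • AModX.res L (le_top : W ≤ ⊤) (InvX.one s)) :=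
    (CycLib.stalkAdd_germ s (U := W) x hxW r).trans (congrArg _ (InvX.app_eq_smul s r'))
  rw [ha, QCoh.germ_smul', InvX.germ_res', ← InvX.germ_res' (le_top : U ≤ ⊤) hx, hg, QCoh.germ_smul',
    ← mul_smul] at h1
  have h2 := (he.germ_bijective hx).1 (a₁ := 1)
    (a₂ := Z.presheaf.germ W x hxW r' * Z.presheaf.germ U x hx g) (by simpa only [one_smul] using h1)
  exact IsUnit.of_mul_eq_one_right _ h2.symm

variable {k : Type u} [Field k] {n : ℕ}

/-- A section of `O(1)` on projective space not vanishing at a given point. -/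
theorem exists_form_section (y : CohB1.ProjSpace n k) :
    ∃ s : Coh.structureModule (CohB1.ProjSpace n k) ⟶ Twist.twistProjSpace n k 1,
      y ∈ CohB1.genLocus _ s := by
  obtain ⟨j, hj⟩ := exists_X_notMem (k := k) (n := n) y
  let a : Forms k n := ⟨MvPolynomial.X j, MvPolynomial.isHomogeneous_X k j⟩
  let x : Twist.twistProjSpace n k 0 ⟶ Twist.twistProjSpace n k 1 :=
    ProjShift.xHom (𝒜 := CohB1.polyGrading n k) a.2 1
  refine ⟨(twistProjSpace_zero k n).some.hom ≫ x,
    mem_genLocus_of_stalk (isInvertible_twistProjSpace k n 1) _ ?_⟩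
  refine Function.Surjective.of_comp (g := id) ?_
  rw [Function.comp_id, VarReg31.stalkLin_comp]
  refine Function.Surjective.comp ?_ (VarReg31.bijective_stalkLin_of_isIso _ y).2
  haveI : IsIso ((KFlatLib.stalkP y).map (DCoh.toP.map x)) :=
    (ConcreteCategory.isIso_iff_bijective _).2 (ProjShift.bijective_stalk a.2 (x := y) hj 1)
  haveI : IsIso ((DerSch.stalkFunctor (CohB1.ProjSpace n k) y).map x) :=
    (NatIso.isIso_map_iff (KFlatLib.stalkToPIso y) x).2 this
  exact ((ConcreteCategory.isIso_iff_bijective _).1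
    (Functor.map_isIso (forget₂ (ModuleCat ((CohB1.ProjSpace n k).presheaf.stalk y)) AddCommGrpCat)
      ((DerSch.stalkFunctor (CohB1.ProjSpace n k) y).map x))).2

variable {X : Scheme.{u}} (i : X ⟶ CohB1.ProjSpace n k)

/-- A section of `i^*O(1)` not vanishing at a given point. -/
theorem exists_section_oX (y : X) : ∃ s : Coh.structureModule X ⟶ oX i 1, y ∈ CohB1.genLocus _ s := by
  obtain ⟨s, hs⟩ := exists_form_section (k := k) (n := n) (i y)
  refine ⟨(PicLoc.pullbackStructureIso i).symm.hom ≫ (Scheme.Modules.pullback i).map s, ?_⟩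
  rw [InvX.genLocus_pullback i (isInvertible_twistProjSpace k n 1) s (PicLoc.pullbackStructureIso i).symm]
  exact hs

theorem cl_oX_add (a b : ℤ) : PicF.cl (oX i (a + b)) = PicF.cl (oX i a) * PicF.cl (oX i b) := by
  rw [← H23.PicMul.cl_tensor]
  exact H23.PicMul.cl_eq_iff.2 ⟨(oX_add i a b).some.symm⟩

theorem cl_oX_zero : PicF.cl (oX i 0) = 1 := by
  rw [H23.PicMul.one_def]
  exact H23.PicMul.cl_eq_iff.2 ⟨(oX_zero i).some.symm⟩

variable [X.Over (Spec (CommRingCat.of k))] [IsProper (X ↘ Spec (CommRingCat.of k))]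

variable (k) in
/-- Numerically trivial invertible modules. -/
def NumTriv (P : X.Modules) : Prop := PicF.IsInvertible P ∧ Pic13.IsNumEquivZero k X P

theorem numEquivZero_iff {P : X.Modules} (hP : PicF.IsInvertible P) :
    Pic13.IsNumEquivZero k X P ↔ ∀ (Y : Scheme.{u}) (ι : Y ⟶ X) [IsClosedImmersion ι],
      IsIntegral Y → topologicalKrullDim Y = 1 →
        SurfInt.degOn k ((Scheme.Modules.pushforward ι).obj (Coh.structureModule Y)) P = 0 := by
  constructor
  · intro h Y ι _ hY hd
    letI := SurfInt.overComp k ι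
    rw [← SurfInt.curveDeg_eq k ι rfl hd.le hP]
    exact h Y ι hY hd
  · intro h Y ι _ hY hd
    letI := SurfInt.overComp k ι
    rw [SurfInt.curveDeg_eq k ι rfl hd.le hP]
    exact h Y ι hY hd

theorem numTriv_structure : NumTriv k (Coh.structureModule X) :=
  ⟨PicLoc.isInvertible_structureModule X, (numEquivZero_iff (PicLoc.isInvertible_structureModule X)).2
    fun _ _ _ _ _ => SurfInt.degOn_one k _⟩

theorem dim_support_push_le {Y : Scheme.{u}} (ι : Y ⟶ X) [IsClosedImmersion ι] {d : ℕ}
    (hd : topologicalKrullDim Y ≤ d) :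
    topologicalKrullDim ↥(CohB1.support ((Scheme.Modules.pushforward ι).obj (Coh.structureModule Y))) ≤ d := by
  refine (H23.TopDim.dim_le_dim_of_subset (QCoh.support_push_subset ι QCoh.isQCoh_structureModule)).trans ?_
  exact (ι.isClosedEmbedding.isEmbedding.toHomeomorph.symm.isEmbedding.isInducing.topologicalKrullDim_le).trans hd

theorem numTriv_congr {P Q : X.Modules} (h : NumTriv k P) (e : P ≅ Q) : NumTriv k Q :=
  ⟨H23.PicMul.isInvertible_of_iso e h.1, (numEquivZero_iff (H23.PicMul.isInvertible_of_iso e h.1)).2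
    fun Y ι _ hY hd => by
      rw [← SurfInt.degOn_congr k e]
      exact (numEquivZero_iff h.1).1 h.2 Y ι hY hd⟩

theorem degOn_tensor_curve {P Q : X.Modules} (hP : PicF.IsInvertible P) (hQ : PicF.IsInvertible Q)
    {Y : Scheme.{u}} (ι : Y ⟶ X) [IsClosedImmersion ι] (hd : topologicalKrullDim Y = 1) :
    SurfInt.degOn k ((Scheme.Modules.pushforward ι).obj (Coh.structureModule Y)) (CohB1.tensorMod P Q) =
      SurfInt.degOn k ((Scheme.Modules.pushforward ι).obj (Coh.structureModule Y)) P +
        SurfInt.degOn k ((Scheme.Modules.pushforward ι).obj (Coh.structureModule Y)) Q := by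
  haveI := SurfInt.noeth k (X := X)
  exact SurfInt.degOn_tensor k (QCoh.isCoh_push_structure ι) (dim_support_push_le ι (d := 1) hd.le) hP hQ

theorem numTriv_tensor {P Q : X.Modules} (hP : NumTriv k P) (hQ : NumTriv k Q) :
    NumTriv k (CohB1.tensorMod P Q) :=
  ⟨H23.PicMul.isInvertible_tensor hP.1 hQ.1, (numEquivZero_iff (H23.PicMul.isInvertible_tensor hP.1 hQ.1)).2
    fun Y ι _ hY hd => by
      rw [degOn_tensor_curve hP.1 hQ.1 ι hd, (numEquivZero_iff hP.1).1 hP.2 Y ι hY hd,
        (numEquivZero_iff hQ.1).1 hQ.2 Y ι hY hd, add_zero]⟩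

theorem numTriv_tensorPow {P : X.Modules} (hP : NumTriv k P) : ∀ m : ℕ, NumTriv k (CohB1.tensorPow P m)
  | 0 => numTriv_structure
  | m + 1 => numTriv_tensor (numTriv_tensorPow hP m) hP

theorem exists_inverse {P : X.Modules} (hP : NumTriv k P) : ∃ P' : X.Modules, NumTriv k P' ∧
    PicF.cl P * PicF.cl P' = 1 := by
  obtain ⟨D, hD, e⟩ := H23.PicInv.exists_inverse hP.1
  refine ⟨D, ⟨hD, (numEquivZero_iff hD).2 fun Y ι _ hY hd => ?_⟩, H23.PicMul.cl_eq_iff.2 e⟩
  have h := degOn_tensor_curve (k := k) hP.1 hD ι hd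
  rw [SurfInt.degOn_congr k e.some, SurfInt.degOn_one, (numEquivZero_iff hP.1).1 hP.2 Y ι hY hd, zero_add] at h
  exact h.symm

theorem numTriv_pullback {Z : Scheme.{u}} [Z.Over (Spec (CommRingCat.of k))] (j : Z ⟶ X) [IsClosedImmersion j]
    (hj : j ≫ (X ↘ Spec (CommRingCat.of k)) = Z ↘ Spec (CommRingCat.of k)) {P : X.Modules} (hP : NumTriv k P) :
    NumTriv k ((Scheme.Modules.pullback j).obj P) := by
  refine ⟨PicClLib.isInvertible_pullback j hP.1, fun Y ι _ hY hd => ?_⟩
  haveI := SurfInt.isProper_comp k j hj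
  letI := SurfInt.overComp k (ι ≫ j)
  have h := hP.2 Y (ι ≫ j) hY hd
  rw [← hj, ← Category.assoc, ← h]
  let e := (Scheme.Modules.pullbackComp ι j).app P
  unfold Pic13.curveDeg FGA.eulerCharLE
  congr 1
  exact Finset.sum_congr rfl fun q _ => congrArg _ (congrArg _ (HilbPoly.finrank_HH_iso k e q))

end Groth.Agent.VarNum31
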