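import Groth.Agent.VarNum31.Invariance
import Groth.Agent.VarGrow31.Vol
import Groth.Agent.VarGrow31.Big
import Groth.Agent.SurfInt.NumConnApps

/-!
# Sections of numerically trivial twists of ample and big modules
-/

set_option linter.style.haveILetI false
set_option linter.unusedSectionVars false
set_option backward.isDefEq.respectTransparency false
set_option backward.isDefEq.respectTransparency.types false
set_option maxHeartbeats 1000000

universe u

open CategoryTheory CategoryTheory.Limits AlgebraicGeometry TopologicalSpace Opposite Filter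
open scoped Groth.Agent.H23.PicMul ENNReal

noncomputable section

namespace Groth.Agent.VarNum31

open Groth.Agent Groth.Agent.Pic13Lib Groth.Agent.VarGrow31

variable {k : Type u} [Field k] {X : Scheme.{u}} [X.Over (Spec (CommRingCat.of k))]
  [IsProper (X ↘ Spec (CommRingCat.of k))]

theorem finrank_pos_of_section {F : X.Modules} (hF : Coh.IsCoh F) {s : Coh.structureModule X ⟶ F} (hs : s ≠ 0) :
    0 < Module.finrank k (Coh.HH X F 0) := by
  haveI := SurfInt.nontrivial_H0_of_hom hs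
  haveI := S0002.result k X F hF 0
  exact Module.finrank_pos

theorem finrank_pos_of_secAt [Nonempty X] {N : X.Modules} (hN : SecAt N) :
    0 < Module.finrank k (Coh.HH X N 0) := by
  haveI := CurveCohLib.isNoetherian_of_proper (k := k) (X := X)
  obtain ⟨s, hs⟩ := hN.2 (Classical.arbitrary X)
  exact finrank_pos_of_section (AmpleVan.isCoh_invertible hN.1) (notMem_zero hs)

/-- Large powers of an ample module: sections are insensitive to numerically trivial twists. -/
theorem exists_h0_const [Nonempty X] {L : X.Modules} (hL : CohB1.IsAmple L) :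
    ∃ m₀ : ℕ, ∀ m, m₀ ≤ m → ∀ N, NumTriv k N →
      Module.finrank k (Coh.HH X (CohB1.tensorMod (CohB1.tensorPow L m) N) 0) =
          Module.finrank k (Coh.HH X (CohB1.tensorPow L m) 0) ∧
        SecAt (CohB1.tensorMod (CohB1.tensorPow L m) N) := by
  haveI := CurveCohLib.isNoetherian_of_proper (k := k) (X := X)
  obtain ⟨n, r, b, hb, hcl, hr, hO⟩ := exists_closedImmersion_pow (X ↘ Spec (CommRingCat.of k)) hL
  haveI := hcl
  have hpow : ∀ t : ℕ, o r (t : ℤ) = PicF.cl L ^ (b * t) := fun t => by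
    show PicF.cl (oX r (t : ℤ)) = _
    rw [← cl_tensorPow_oX, H23.PicMul.cl_tensorPow, hO, pow_mul]
  have hG := fun j : Fin b => good_of_isCoh r hr
    (AmpleVan.isCoh_invertible (InvX.isInvertible_tensorPow hL.1 (j : ℕ)))
  choose mj hmj using fun j => (hG j).reg
  obtain ⟨M, hM⟩ := (Set.finite_range mj).bddAbove
  refine ⟨b * (M.toNat + 1), fun m hm N hN => ?_⟩
  let t := m / b
  let j : Fin b := ⟨m % b, Nat.mod_lt _ hb⟩
  have ht : mj j ≤ (t : ℤ) := by
    have h1 : M.toNat + 1 ≤ t := by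
      refine (Nat.le_div_iff_mul_le hb).2 ?_
      rw [mul_comm]; exact hm
    have h2 := hM ⟨j, rfl⟩
    have h3 := Int.self_le_toNat M
    omega
  have hmeq : PicF.cl L ^ m = PicF.cl (CohB1.tensorPow L (j : ℕ)) * o r (t : ℤ) := by
    rw [hpow, H23.PicMul.cl_tensorPow, ← pow_add, Nat.mod_add_div]
  have hh0 : ∀ P, NumTriv k P → (hc k 0 (PicF.cl L ^ m * PicF.cl P) : ℤ) =
      ec k (PicF.cl (CohB1.tensorPow L (j : ℕ)) * (PicF.cl P * o r (t : ℤ))) := by
    intro P hP
    have hI := InvX.isInvertible_tensorPow hL.1 (j : ℕ)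
    have hc' : Coh.IsCoh (CohB1.tensorMod (CohB1.tensorPow L (j : ℕ)) P) :=
      AmpleVan.isCoh_invertible (H23.PicMul.isInvertible_tensor hI hP.1)
    have e : PicF.cl L ^ m * PicF.cl P =
        PicF.cl (Pic13.twistOn k r (CohB1.tensorMod (CohB1.tensorPow L (j : ℕ)) P) (t : ℤ)) := by
      rw [hmeq, cl_twistOn, H23.PicMul.cl_tensor]; ac_rfl
    have e' : PicF.cl (CohB1.tensorPow L (j : ℕ)) * (PicF.cl P * o r (t : ℤ)) =
        PicF.cl (Pic13.twistOn k r (CohB1.tensorMod (CohB1.tensorPow L (j : ℕ)) P) (t : ℤ)) := by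
      rw [cl_twistOn, H23.PicMul.cl_tensor, mul_assoc]
    rw [e, e', hc_cl, ec_cl, Euler.euler_eq_sum k _ 1 fun q hq =>
      subsingleton_HH_of_isMRegular r hc' (hmj j P hP) hq (by omega)]
    simp
  refine ⟨?_, ?_⟩
  · have h1 := hh0 N hN
    rw [(hG j).chi N hN (t : ℤ)] at h1
    have h2 := hh0 _ numTriv_structure
    rw [← H23.PicMul.one_def, mul_one, one_mul] at h2
    rw [← hc_cl (k := k), ← hc_cl (k := k), H23.PicMul.cl_tensor, H23.PicMul.cl_tensorPow]
    omega
  · have hI := InvX.isInvertible_tensorPow hL.1 (j : ℕ)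
    have hLN := H23.PicMul.isInvertible_tensor hI hN.1
    refine secAt_of_cl (secAt_of_gg (k := k) (H23.PicMul.isInvertible_tensor hLN (isInvertible_oX r (t : ℤ)))
      (isGloballyGenerated_twistOn r (AmpleVan.isCoh_invertible hLN)
        (isMRegular_of_le r (AmpleVan.isCoh_invertible hLN) (hmj j N hN) ht))) ?_
    simp only [H23.PicMul.cl_tensor]
    rw [H23.PicMul.cl_tensorPow L m, hmeq]
    show _ * PicF.cl (oX r (t : ℤ)) = _ * PicF.cl (oX r (t : ℤ)) * _
    ac_rfl

/-- A big module: some power has sections after every numerically trivial twist. -/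
theorem exists_pos_big [IsIntegral X] {A : X.Modules} (hA : CohB1.IsAmple A) {d : ℕ}
    (hd : topologicalKrullDim X = d) {L : X.Modules} (hL : PicF.IsInvertible L) {δ : ℝ} (hδ : 0 < δ)
    (h : ∃ᶠ m : ℕ in atTop, δ * (m : ℝ) ^ d < (hp k L 0 m : ℝ)) :
    ∃ a : ℕ, 0 < a ∧ ∀ j : ℕ, 0 < j → ∀ N, NumTriv k N →
      0 < Module.finrank k (Coh.HH X (CohB1.tensorMod (CohB1.tensorPow L (a * j)) N) 0) := by
  haveI := CurveCohLib.isNoetherian_of_proper (k := k) (X := X)
  obtain ⟨m₀, hm₀⟩ := exists_h0_const (k := k) hA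
  let B := CohB1.tensorPow A (m₀ + 1)
  have hB := InvX.isInvertible_tensorPow hA.1 (m₀ + 1)
  obtain ⟨B', hB', eB⟩ := H23.PicInv.exists_inverse hB
  obtain ⟨a, ha, hnt⟩ := exists_pos_twist k hL hd hB' hδ h
  obtain ⟨σ, hσ⟩ := SurfInt.exists_section_ne_zero hnt
  have hS := H23.PicMul.isInvertible_tensor hB' (InvX.isInvertible_tensorPow hL a)
  have hσg := genericPoint_mem_genLocus hS σ hσ
  refine ⟨a, ha, fun j hj N hN => ?_⟩
  have hBN : SecAt (CohB1.tensorMod (CohB1.tensorPow A (j * (m₀ + 1))) N) :=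
    (hm₀ _ ((Nat.le_succ _).trans (Nat.le_mul_of_pos_left _ hj)) N hN).2
  obtain ⟨τ, hτ⟩ := hBN.2 (genericPoint X)
  have hg : genericPoint X ∈ CohB1.genLocus _ (InvX.mulHom τ (InvX.powHom σ j)) := by
    rw [InvX.genLocus_mulHom hBN.1 (InvX.isInvertible_tensorPow hS j)]
    obtain ⟨j, rfl⟩ : ∃ j', j = j' + 1 := ⟨j - 1, by omega⟩
    rw [InvX.genLocus_powHom hS]
    exact ⟨hτ, hσg⟩
  have h0 := finrank_pos_of_section (k := k) (AmpleVan.isCoh_invertible
    (H23.PicMul.isInvertible_tensor hBN.1 (InvX.isInvertible_tensorPow hS j))) (notMem_zero hg)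
  refine lt_of_lt_of_eq h0 ((CurveCohLib.hhEquiv (k := k) (H23.PicMul.cl_eq_iff.1 ?_).some 0).finrank_eq)
  have e1 : PicF.cl B * PicF.cl B' = 1 := H23.PicMul.cl_eq_iff.2 eB
  simp only [B, H23.PicMul.cl_tensorPow] at e1
  simp only [H23.PicMul.cl_tensor, H23.PicMul.cl_tensorPow, mul_pow]
  rw [mul_comm j, pow_mul, pow_mul]
  calc _ = ((PicF.cl A ^ (m₀ + 1)) * PicF.cl B') ^ j * ((PicF.cl L ^ a) ^ j * PicF.cl N) := by
        rw [mul_pow]; ac_rfl
    _ = _ := by rw [e1, one_pow, one_mul]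

/-- Positive lower limit in `ℝ≥0∞` gives a positive lower density. -/
theorem frequently_of_liminf_pos {d : ℕ} {f : ℕ → ℕ}
    (h : 0 < liminf (fun m : ℕ => (f m : ℝ≥0∞) / (m : ℝ≥0∞) ^ d) atTop) :
    ∃ δ : ℝ, 0 < δ ∧ ∃ᶠ m : ℕ in atTop, δ * (m : ℝ) ^ d < (f m : ℝ) := by
  obtain ⟨η, hη0, hη⟩ := exists_between h
  have hη' : η ≠ ⊤ := ne_top_of_lt hη
  refine ⟨η.toReal, ENNReal.toReal_pos hη0.ne' hη', Eventually.frequently ?_⟩
  filter_upwards [eventually_lt_of_lt_liminf hη, eventually_ge_atTop 1] with m hm hm1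
  have hm0 : (0 : ℝ) < (m : ℝ) ^ d := pow_pos (by exact_mod_cast hm1) d
  have hne : (m : ℝ≥0∞) ^ d ≠ 0 := pow_ne_zero _ (Nat.cast_ne_zero.2 (by omega))
  have hlt := (ENNReal.toReal_lt_toReal hη' (ENNReal.div_ne_top (ENNReal.natCast_ne_top _) hne)).2 hm
  rw [ENNReal.toReal_div, ENNReal.toReal_pow, ENNReal.toReal_natCast, ENNReal.toReal_natCast, lt_div_iff₀ hm0] at hlt
  exact hlt

end Groth.Agent.VarNum31
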