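import Groth.Agent.VarNum31.Neg
import Groth.Agent.Pic13Lib.Bounds12112
import Groth.Agent.Pic13Lib.Bounded
import Groth.Agent.Posit43.Sections
import Groth.Agent.Posit43.Nakai
import Groth.Agent.QCoh.HHExact
import Groth.Agent.Lib.Euler
import Groth.Agent.S10829

/-!
# Numerically trivial modules are bounded

For a closed subscheme `X` of projective space and a coherent `M`: the sections of `M ⊗ P(t)` are bounded,
`χ(M ⊗ P(t)) = χ(M(t))`, and `M ⊗ P` is uniformly regular, for all numerically trivial invertible `P`.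
-/

set_option linter.style.haveILetI false
set_option linter.unusedSectionVars false
set_option backward.isDefEq.respectTransparency false
set_option backward.isDefEq.respectTransparency.types false
set_option maxHeartbeats 1000000

universe u

open CategoryTheory CategoryTheory.Limits AlgebraicGeometry TopologicalSpace Opposite
open scoped Groth.Agent.H23.PicMul

noncomputable section

namespace Groth.Agent.VarNum31

open Groth.Agent Groth.Agent.Pic13Lib
open Groth.Agent.VarGrow31 (hc hc_cl)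

variable {k : Type u} [Field k] {X : Scheme.{u}} [X.Over (Spec (CommRingCat.of k))]

variable [IsProper (X ↘ Spec (CommRingCat.of k))]

variable (k) in
/-- `χ` on isomorphism classes. -/
def ec : PicF.Cl X → ℤ :=
  Quot.lift (fun A => Curv2.euler k X A) fun _ _ ⟨e⟩ => Euler.euler_congr k e

theorem ec_cl (A : X.Modules) : ec k (PicF.cl A) = Curv2.euler k X A := rfl

section Seq

variable {S : ShortComplex X.Modules} (hS : S.ShortExact) (h1 : Coh.IsCoh S.X₁) (h2 : Coh.IsCoh S.X₂)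
  (h3 : Coh.IsCoh S.X₃) {Q : X.Modules} (hQ : PicF.IsInvertible Q)
include hS h1 h2 h3 hQ

theorem exists_tw_seq [IsNoetherian X] : ∃ T : ShortComplex X.Modules, T.ShortExact ∧ Coh.IsCoh T.X₁ ∧ Coh.IsCoh T.X₂ ∧
    Coh.IsCoh T.X₃ ∧ PicF.cl T.X₁ = PicF.cl S.X₁ * PicF.cl Q ∧ PicF.cl T.X₂ = PicF.cl S.X₂ * PicF.cl Q ∧
    PicF.cl T.X₃ = PicF.cl S.X₃ * PicF.cl Q := by
  haveI := AmpleVan.isEquivalence_tw hQ
  have hQc := AmpleVan.isCoh_invertible hQ
  exact ⟨S.map (AmpleVan.tw Q), hS.map_of_exact _, AmpleVan.isCoh_tensor h1 hQc,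
    AmpleVan.isCoh_tensor h2 hQc, AmpleVan.isCoh_tensor h3 hQc, rfl, rfl, rfl⟩

theorem h0_bounds :
    hc k 0 (PicF.cl S.X₁ * PicF.cl Q) ≤ hc k 0 (PicF.cl S.X₂ * PicF.cl Q) ∧
    hc k 0 (PicF.cl S.X₂ * PicF.cl Q) ≤
      hc k 0 (PicF.cl S.X₁ * PicF.cl Q) + hc k 0 (PicF.cl S.X₃ * PicF.cl Q) := by
  haveI := CurveCohLib.isNoetherian_of_proper (k := k) (X := X)
  obtain ⟨T, hT, t1, t2, t3, e1, e2, e3⟩ := exists_tw_seq hS h1 h2 h3 hQ
  rw [← e1, ← e2, ← e3, hc_cl, hc_cl, hc_cl]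
  exact ⟨(S17630.bounds k hT t1 t2 t3 0).2.1, (S17630.bounds k hT t1 t2 t3 0).1⟩

theorem ec_additive :
    ec k (PicF.cl S.X₂ * PicF.cl Q) = ec k (PicF.cl S.X₁ * PicF.cl Q) + ec k (PicF.cl S.X₃ * PicF.cl Q) := by
  haveI := CurveCohLib.isNoetherian_of_proper (k := k) (X := X)
  obtain ⟨T, hT, t1, t2, t3, e1, e2, e3⟩ := exists_tw_seq hS h1 h2 h3 hQ
  rw [← e1, ← e2, ← e3, ec_cl, ec_cl, ec_cl]
  exact Euler.euler_add k hT t1 t2 t3

end Seq

theorem subsingleton_of_cl {A B : X.Modules} (h : PicF.cl A = PicF.cl B) (q : ℕ)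
    (hA : Subsingleton (Coh.HH X A q)) : Subsingleton (Coh.HH X B q) :=
  QCoh.subsingleton_HH_of_iso (H23.PicMul.cl_eq_iff.1 h).some q hA

variable {n : ℕ} (i : X ⟶ CohB1.ProjSpace n k)

/-- The class of `O(t)`. -/
abbrev o (t : ℤ) : PicF.Cl X := PicF.cl (oX i t)

theorem cl_twistOn (F : X.Modules) (d : ℤ) : PicF.cl (Pic13.twistOn k i F d) = PicF.cl F * o i d := rfl

variable (k) in
/-- The three uniform statements for a coherent module. -/
structure Good (M : X.Modules) : Prop where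
  h0 : ∀ t : ℤ, ∃ C : ℕ, ∀ P, NumTriv k P → hc k 0 (PicF.cl M * (PicF.cl P * o i t)) ≤ C
  chi : ∀ P, NumTriv k P → ∀ t : ℤ, ec k (PicF.cl M * (PicF.cl P * o i t)) = ec k (PicF.cl M * o i t)
  reg : ∃ m : ℤ, ∀ P, NumTriv k P → Pic13.IsMRegular k i (CohB1.tensorMod M P) m

theorem good_of_iso {A B : X.Modules} (e : A ≅ B) (h : Good k i A) : Good k i B := by
  have hcl : PicF.cl A = PicF.cl B := H23.PicMul.cl_eq_iff.2 ⟨e⟩
  refine ⟨hcl ▸ h.h0, hcl ▸ h.chi, ?_⟩
  obtain ⟨m, hm⟩ := h.reg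
  exact ⟨m, fun P hP q hq => subsingleton_of_cl
    (by rw [cl_twistOn, cl_twistOn, H23.PicMul.cl_tensor, H23.PicMul.cl_tensor, hcl]) q (hm P hP q hq)⟩

theorem good_of_isZero {A : X.Modules} (h : IsZero A) : Good k i A := by
  haveI := CurveCohLib.isNoetherian_of_proper (k := k) (X := X)
  have hz : ∀ {P : X.Modules}, PicF.IsInvertible P → IsZero (CohB1.tensorMod A P) := fun hP =>
    haveI := AmpleVan.isEquivalence_tw hP
    (AmpleVan.tw _).map_isZero h
  have he : ∀ {Q : X.Modules}, PicF.IsInvertible Q → ec k (PicF.cl A * PicF.cl Q) = 0 := fun {Q} hQ => by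
    rw [← H23.PicMul.cl_tensor, ec_cl, Euler.euler_eq_sum k _ 0 fun j _ => Euler.subsingleton_HH_of_isZero (hz hQ) j]
    simp
  refine ⟨fun t => ⟨0, fun P hP => ?_⟩, fun P hP t => ?_, ⟨0, fun P hP q hq => ?_⟩⟩
  · have hQ := H23.PicMul.isInvertible_tensor hP.1 (isInvertible_oX i t)
    haveI := Euler.subsingleton_HH_of_isZero (hz hQ) 0
    rw [← H23.PicMul.cl_tensor, ← H23.PicMul.cl_tensor, hc_cl, Module.finrank_zero_of_subsingleton (R := k)]
  · rw [← H23.PicMul.cl_tensor, he (H23.PicMul.isInvertible_tensor hP.1 (isInvertible_oX i t)),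
      he (isInvertible_oX i t)]
  · haveI := AmpleVan.isEquivalence_tw (isInvertible_oX i ((0 : ℤ) - q))
    exact Euler.subsingleton_HH_of_isZero ((AmpleVan.tw (oX i ((0 : ℤ) - q))).map_isZero (hz hP.1)) q

theorem le_of_lt_succ' {a : WithBot ℕ∞} {d : ℕ} (h : a < ((d + 1 : ℕ) : WithBot ℕ∞)) : a ≤ (d : WithBot ℕ∞) := by
  induction a using WithBot.recBotCoe with
  | bot => exact bot_le
  | coe a =>
    have h' : a < ((d + 1 : ℕ) : ℕ∞) := by exact_mod_cast h
    induction a using ENat.recTopCoe with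
    | top => exact absurd h' (by simp)
    | coe a => exact_mod_cast Nat.le_of_lt_succ (by exact_mod_cast h')

theorem isZero_of_dim_lt_zero {M : X.Modules} (hM : Coh.IsCoh M)
    (h : topologicalKrullDim ↥(CohB1.support M) < ((0 : ℕ) : WithBot ℕ∞)) : IsZero M := by
  refine QCoh.isZero_of_app_eq_zero hM.1 fun W s =>
    TopCat.Presheaf.section_ext ⟨M.presheaf, M.isSheaf⟩ _ _ _ fun y hy => ?_
  by_cases hy' : y ∈ CohB1.support M
  · haveI : Nonempty ↥(CohB1.support M) := ⟨⟨y, hy'⟩⟩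
    have h0 : (0 : WithBot ℕ∞) ≤ topologicalKrullDim ↥(CohB1.support M) := by
      haveI : Nonempty (IrreducibleCloseds ↥(CohB1.support M)) :=
        ⟨⟨closure {⟨y, hy'⟩}, isIrreducible_singleton.closure, isClosed_closure⟩⟩
      exact Order.krullDim_nonneg
    exact absurd h (not_lt.2 h0)
  · haveI : Subsingleton (M.presheaf.stalk y) := not_not.1 hy'
    exact Subsingleton.elim _ _

variable [IsClosedImmersion i]

include i in
theorem dim_support_le_of_closed (M : X.Modules) :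
    topologicalKrullDim ↥(CohB1.support M) ≤ (n : WithBot ℕ∞) :=
  ((Topology.IsInducing.subtypeVal).topologicalKrullDim_le).trans
    (i.isClosedEmbedding.isEmbedding.isInducing.topologicalKrullDim_le.trans (S10829.result k n).le)

theorem good_ext {S : ShortComplex X.Modules} (hS : S.ShortExact) (h1 : Coh.IsCoh S.X₁) (h2 : Coh.IsCoh S.X₂)
    (h3 : Coh.IsCoh S.X₃) (a : Good k i S.X₁) (c : Good k i S.X₃) : Good k i S.X₂ := by
  haveI := CurveCohLib.isNoetherian_of_proper (k := k) (X := X)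
  refine ⟨fun t => ?_, fun P hP t => ?_, ?_⟩
  · obtain ⟨C₁, hC₁⟩ := a.h0 t
    obtain ⟨C₃, hC₃⟩ := c.h0 t
    refine ⟨C₁ + C₃, fun P hP => ?_⟩
    rw [← H23.PicMul.cl_tensor P (oX i t)]
    exact (h0_bounds hS h1 h2 h3 (H23.PicMul.isInvertible_tensor hP.1 (isInvertible_oX i t))).2.trans
      (add_le_add (hC₁ P hP) (hC₃ P hP))
  · rw [← H23.PicMul.cl_tensor P (oX i t),
      ec_additive hS h1 h2 h3 (H23.PicMul.isInvertible_tensor hP.1 (isInvertible_oX i t)),
      ec_additive hS h1 h2 h3 (isInvertible_oX i t), H23.PicMul.cl_tensor, a.chi P hP t, c.chi P hP t]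
  · obtain ⟨m₁, hm₁⟩ := a.reg
    obtain ⟨m₃, hm₃⟩ := c.reg
    refine ⟨max m₁ m₃, fun P hP q hq => ?_⟩
    have hc' : ∀ {A : X.Modules}, Coh.IsCoh A → Coh.IsCoh (CohB1.tensorMod A P) := fun hA =>
      AmpleVan.isCoh_tensor hA (AmpleVan.isCoh_invertible hP.1)
    obtain ⟨T, hT, -, -, -, e1, e2, e3⟩ := exists_tw_seq hS h1 h2 h3
      (H23.PicMul.isInvertible_tensor hP.1 (isInvertible_oX i (max m₁ m₃ - q)))
    have u := isMRegular_of_le i (hc' h1) (hm₁ P hP) (le_max_left m₁ m₃) q hq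
    have w := isMRegular_of_le i (hc' h3) (hm₃ P hP) (le_max_right m₁ m₃) q hq
    refine subsingleton_of_cl ?_ q (QCoh.subsingleton_HH_X₂ hT q (subsingleton_of_cl ?_ q u)
      (subsingleton_of_cl ?_ q w))
    · rw [e2, cl_twistOn, H23.PicMul.cl_tensor, H23.PicMul.cl_tensor, mul_assoc]
    · rw [e1, cl_twistOn, H23.PicMul.cl_tensor, H23.PicMul.cl_tensor, mul_assoc]
    · rw [e3, cl_twistOn, H23.PicMul.cl_tensor, H23.PicMul.cl_tensor, mul_assoc]

variable (hi : i ≫ CohB1.ProjSpace.toSpec n k = X ↘ Spec (CommRingCat.of k))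

section Piece

variable {Z : Scheme.{u}} (j : Z ⟶ X) [IsClosedImmersion j] [IsIntegral Z]
  {I : Z.Modules} (ι : I ⟶ Coh.structureModule Z) [Mono ι] (hI : Coh.IsCoh I) {d : ℕ}
  (hd : topologicalKrullDim ↥(closure ({j (genericPoint Z)} : Set X)) ≤ (d : WithBot ℕ∞))
  (IH : ∀ C : X.Modules, Coh.IsCoh C → topologicalKrullDim ↥(CohB1.support C) < (d : WithBot ℕ∞) → Good k i C)

include ι hI hd IH in
/-- Cutting a piece by a section not vanishing at its generic point. -/
theorem exists_cut {N : X.Modules} (hN : PicF.IsInvertible N) (s : Coh.structureModule X ⟶ N)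
    (hs : j (genericPoint Z) ∈ CohB1.genLocus N s) :
    ∃ C : X.Modules, Good k i C ∧ ∀ {Q : X.Modules}, PicF.IsInvertible Q →
      ∃ T : ShortComplex X.Modules, T.ShortExact ∧ Coh.IsCoh T.X₁ ∧ Coh.IsCoh T.X₂ ∧ Coh.IsCoh T.X₃ ∧
        PicF.cl T.X₁ = PicF.cl ((Coh.push j).obj I) * PicF.cl Q ∧
        PicF.cl T.X₂ = PicF.cl ((Coh.push j).obj I) * (PicF.cl N * PicF.cl Q) ∧
        PicF.cl T.X₃ = PicF.cl C * PicF.cl Q := by
  haveI := CurveCohLib.isNoetherian_of_proper (k := k) (X := X)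
  have hM := Posit43.isCoh_push_piece j hI
  have hMN : Coh.IsCoh (CohB1.tensorMod ((Coh.push j).obj I) N) :=
    AmpleVan.isCoh_tensor hM (AmpleVan.isCoh_invertible hN)
  have hC := QCoh.isCoh_cokernel hM.1 hMN (HilbPoly.mulHom s ((Coh.push j).obj I))
  haveI := Posit43.mono_mulHom_piece j ι s hs
  let S : ShortComplex X.Modules := ShortComplex.mk (HilbPoly.mulHom s ((Coh.push j).obj I)) (cokernel.π _)
    (cokernel.condition _)
  have hS : S.ShortExact :=
    .mk' (ShortComplex.exact_of_g_is_cokernel _ (cokernelIsCokernel _)) ‹_› inferInstance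
  refine ⟨S.X₃, IH _ hC (Posit43.dimLT_cokernel_piece j ι hN s hs hI hd), fun {Q} hQ => ?_⟩
  obtain ⟨T, hT, t1, t2, t3, e1, e2, e3⟩ := exists_tw_seq hS hM hMN hC hQ
  exact ⟨T, hT, t1, t2, t3, e1, by rw [e2, H23.PicMul.cl_tensor, mul_assoc], e3⟩

include hi ι hI in
theorem h0_piece_neg {t : ℤ} (ht : t < 0) :
    ∃ C : ℕ, ∀ P, NumTriv k P → hc k 0 (PicF.cl ((Coh.push j).obj I) * (PicF.cl P * o i t)) ≤ C := by
  letI := SurfInt.overComp k j
  have hj : j ≫ (X ↘ Spec (CommRingCat.of k)) = Z ↘ Spec (CommRingCat.of k) := rfl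
  haveI := SurfInt.isProper_comp k j hj
  haveI := SurfInt.noeth k (X := Z)
  refine ⟨Module.finrank k (Coh.HH Z (Coh.structureModule Z) 0), fun P hP => ?_⟩
  have hQ := H23.PicMul.isInvertible_tensor hP.1 (isInvertible_oX i t)
  let Q' := (Scheme.Modules.pullback j).obj (CohB1.tensorMod P (oX i t))
  have hQ' : PicF.IsInvertible Q' := PicClLib.isInvertible_pullback j hQ
  have hO : Coh.IsCoh (Coh.structureModule Z) := QCoh.isCoh_structureModule'
  have hIQ : Coh.IsCoh (CohB1.tensorMod I Q') := AmpleVan.isCoh_tensor hI (AmpleVan.isCoh_invertible hQ')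
  obtain ⟨e⟩ := VarInt.nonempty_push_tensor j I hQ
  obtain ⟨l⟩ := PnCoh.exists_linearEquiv_push k j hj hIQ.1 0
  rw [← H23.PicMul.cl_tensor, ← H23.PicMul.cl_tensor, hc_cl, HilbPoly.finrank_HH_iso k e 0, ← l.finrank_eq]
  have hS : (ShortComplex.mk ι (cokernel.π ι) (cokernel.condition ι)).ShortExact :=
    .mk' (ShortComplex.exact_of_g_is_cokernel _ (cokernelIsCokernel _)) ‹_› inferInstance
  refine ((h0_bounds (k := k) hS hI hO (QCoh.isCoh_cokernel hI.1 hO ι) hQ').1).trans ?_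
  show hc k 0 (PicF.cl (Coh.structureModule Z) * PicF.cl Q') ≤ _
  rw [← H23.PicMul.one_def, one_mul]
  have ecl : PicF.cl Q' = PicF.cl (CohB1.tensorMod ((Scheme.Modules.pullback j).obj P) (oX (j ≫ i) t)) := by
    show PicF.pullCl j (PicF.cl P * o i t) = _
    rw [H23.PicMul.pullCl_mul, H23.PicMul.cl_tensor]
    exact congrArg _ (H23.PicMul.cl_eq_iff.2
      ⟨(Scheme.Modules.pullbackComp j i).app (Twist.twistProjSpace n k t)⟩)
  rw [ecl, hc_cl]
  exact finrank_h0_neg_le (j ≫ i) (numTriv_pullback j hj hP) ht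

/-- The defect of `χ` under a twist by a class. -/
def defect (M : X.Modules) (p : PicF.Cl X) (t : ℤ) : ℤ :=
  ec k (PicF.cl M * (p * o i t)) - ec k (PicF.cl M * o i t)

include ι hI hd IH in
theorem defect_const {p : X.Modules} (hp : NumTriv k p) (t : ℤ) :
    defect (k := k) i ((Coh.push j).obj I) (PicF.cl p) t =
      defect (k := k) i ((Coh.push j).obj I) (PicF.cl p) 0 := by
  haveI := CurveCohLib.isNoetherian_of_proper (k := k) (X := X)
  obtain ⟨s, hs⟩ := exists_section_oX i (j (genericPoint Z))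
  obtain ⟨C, hC, hT⟩ := exists_cut i j ι hI hd IH (isInvertible_oX i 1) s hs
  have step : ∀ u : ℤ, defect (k := k) i ((Coh.push j).obj I) (PicF.cl p) (u + 1) =
      defect (k := k) i ((Coh.push j).obj I) (PicF.cl p) u := fun u => by
    have key : ∀ {Q : X.Modules}, PicF.IsInvertible Q →
        ec k (PicF.cl ((Coh.push j).obj I) * (PicF.cl (oX i 1) * PicF.cl Q)) =
          ec k (PicF.cl ((Coh.push j).obj I) * PicF.cl Q) + ec k (PicF.cl C * PicF.cl Q) := fun {Q} hQ => by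
      obtain ⟨T, hTs, t1, t2, t3, e1, e2, e3⟩ := hT hQ
      rw [← e1, ← e2, ← e3, ec_cl, ec_cl, ec_cl]
      exact Euler.euler_add k hTs t1 t2 t3
    have h1 := key (H23.PicMul.isInvertible_tensor hp.1 (isInvertible_oX i u))
    have h2 := key (isInvertible_oX i u)
    rw [H23.PicMul.cl_tensor, hC.chi p hp u, mul_left_comm (PicF.cl (oX i 1)), ← cl_oX_add, add_comm 1 u] at h1
    rw [← cl_oX_add, add_comm 1 u] at h2
    unfold defect o
    linarith [h1, h2]
  induction t using Int.induction_on with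
  | zero => rfl
  | succ u ih => rw [step, ih]
  | pred u ih => rw [← ih]; simpa using (step (-(u : ℤ) - 1)).symm

include hi ι hI hd IH in
theorem defect_mul {p q : X.Modules} (hp : NumTriv k p) (hq : NumTriv k q) :
    defect (k := k) i ((Coh.push j).obj I) (PicF.cl p * PicF.cl q) 0 =
      defect (k := k) i ((Coh.push j).obj I) (PicF.cl p) 0 +
        defect (k := k) i ((Coh.push j).obj I) (PicF.cl q) 0 := by
  haveI := CurveCohLib.isNoetherian_of_proper (k := k) (X := X)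
  haveI : CompactSpace X := inferInstance
  obtain ⟨b, -, σ, -, -, hσ⟩ := Posit43.exists_sections_at (isAmple_oX_one i) hq.1 (j (genericPoint Z))
  have hN := H23.PicMul.isInvertible_tensor hq.1 (InvX.isInvertible_tensorPow (isInvertible_oX i 1) b)
  obtain ⟨C, hC, hT⟩ := exists_cut i j ι hI hd IH hN σ hσ
  have key : ∀ {Q : X.Modules}, PicF.IsInvertible Q →
      ec k (PicF.cl ((Coh.push j).obj I) * ((PicF.cl q * o i b) * PicF.cl Q)) =
        ec k (PicF.cl ((Coh.push j).obj I) * PicF.cl Q) + ec k (PicF.cl C * PicF.cl Q) := fun {Q} hQ => by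
    obtain ⟨T, hTs, t1, t2, t3, e1, e2, e3⟩ := hT hQ
    rw [H23.PicMul.cl_tensor q, cl_tensorPow_oX] at e2
    rw [← e1, ← e2, ← e3, ec_cl, ec_cl, ec_cl]
    exact Euler.euler_add k hTs t1 t2 t3
  have h1 := key (H23.PicMul.isInvertible_tensor hp.1 (isInvertible_oX i 0))
  have h2 := key (isInvertible_oX i 0)
  rw [H23.PicMul.cl_tensor, hC.chi p hp 0] at h1
  have hq' := defect_const i j ι hI hd IH hq (b : ℤ)
  have hpq' := defect_const i j ι hI hd IH (numTriv_tensor hp hq) (b : ℤ)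
  rw [H23.PicMul.cl_tensor] at hpq'
  have ea : (PicF.cl q * o i b) * (PicF.cl p * o i 0) = (PicF.cl p * PicF.cl q) * o i b := by
    simp only [o, cl_oX_zero, mul_one]
    ac_rfl
  have eb : (PicF.cl q * o i b) * o i 0 = PicF.cl q * o i b := by
    simp only [o, cl_oX_zero, mul_one]
  rw [ea] at h1
  rw [eb] at h2
  unfold defect o at *
  linarith [h1, h2, hq', hpq']

include hi ι hI hd IH in
/-- The statements for a piece. -/
theorem good_piece : Good k i ((Coh.push j).obj I) := by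
  haveI := CurveCohLib.isNoetherian_of_proper (k := k) (X := X)
  have hM : Coh.IsCoh ((Coh.push j).obj I) := Posit43.isCoh_push_piece j hI
  obtain ⟨s, hs⟩ := exists_section_oX i (j (genericPoint Z))
  obtain ⟨C, hC, hT⟩ := exists_cut i j ι hI hd IH (isInvertible_oX i 1) s hs
  -- sections
  have hA' : ∀ u : ℕ, ∃ A : ℕ, ∀ P, NumTriv k P →
      hc k 0 (PicF.cl ((Coh.push j).obj I) * (PicF.cl P * o i ((u : ℤ) - 1))) ≤ A := by
    intro u
    induction u with
    | zero => exact h0_piece_neg i hi j ι hI (by norm_num)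
    | succ u ih =>
      obtain ⟨A, hA⟩ := ih
      obtain ⟨B, hB⟩ := hC.h0 ((u : ℤ) - 1)
      refine ⟨A + B, fun P hP => ?_⟩
      obtain ⟨T, hTs, t1, t2, t3, e1, e2, e3⟩ :=
        hT (H23.PicMul.isInvertible_tensor hP.1 (isInvertible_oX i ((u : ℤ) - 1)))
      have e : PicF.cl ((Coh.push j).obj I) * (PicF.cl P * o i (((u + 1 : ℕ) : ℤ) - 1)) = PicF.cl T.X₂ := by
        rw [e2, H23.PicMul.cl_tensor, mul_left_comm (PicF.cl (oX i 1))]
        simp only [o]
        rw [← cl_oX_add]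
        congr 4
        omega
      rw [e, hc_cl]
      refine ((S17630.bounds k hTs t1 t2 t3 0).1).trans (add_le_add ?_ ?_)
      · rw [← hc_cl (k := k), e1, H23.PicMul.cl_tensor]; exact hA P hP
      · rw [← hc_cl (k := k), e3, H23.PicMul.cl_tensor]; exact hB P hP
  have hA : ∀ t : ℤ, ∃ A : ℕ, ∀ P, NumTriv k P →
      hc k 0 (PicF.cl ((Coh.push j).obj I) * (PicF.cl P * o i t)) ≤ A := by
    intro t
    rcases lt_or_ge t 0 with ht | ht
    · exact h0_piece_neg i hi j ι hI ht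
    · have := hA' (t + 1).toNat
      rwa [Int.toNat_of_nonneg (by omega), add_sub_cancel_right] at this
  obtain ⟨m₁, hm₁⟩ := hC.reg
  obtain ⟨A, hA₁⟩ := hA m₁
  -- the sequence for `F = M ⊗ P`
  have hseq : ∀ P, NumTriv k P → ∃ (G : X.Modules) (T : ShortComplex X.Modules), Coh.IsCoh G ∧
      Pic13.IsMRegular k i G (m₁ + 1) ∧ T.ShortExact ∧
      Nonempty (T.X₁ ≅ Pic13.twistOn k i (CohB1.tensorMod ((Coh.push j).obj I) P) (-1)) ∧
      Nonempty (T.X₂ ≅ CohB1.tensorMod ((Coh.push j).obj I) P) ∧ Nonempty (T.X₃ ≅ G) := by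
    intro P hP
    have hQ := H23.PicMul.isInvertible_tensor hP.1 (isInvertible_oX i (-1))
    obtain ⟨T, hTs, t1, t2, t3, e1, e2, e3⟩ := hT hQ
    refine ⟨T.X₃, T, t3, fun q hq => subsingleton_of_cl ?_ q (hm₁ P hP q hq), hTs,
      H23.PicMul.cl_eq_iff.1 ?_, H23.PicMul.cl_eq_iff.1 ?_, ⟨Iso.refl _⟩⟩
    · rw [cl_twistOn, cl_twistOn, e3, H23.PicMul.cl_tensor, H23.PicMul.cl_tensor, mul_assoc, mul_assoc,
        mul_assoc]
      simp only [o]
      rw [← cl_oX_add]
      congr 4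
      omega
    · rw [e1, cl_twistOn, H23.PicMul.cl_tensor, H23.PicMul.cl_tensor, mul_assoc]
    · rw [e2, H23.PicMul.cl_tensor, H23.PicMul.cl_tensor, mul_left_comm (PicF.cl (oX i 1)), ← cl_oX_add,
        add_neg_cancel, cl_oX_zero, mul_one]
  have hhigh : ∀ P, NumTriv k P → ∀ (q : ℕ) (d : ℤ), 2 ≤ q → m₁ + 1 - q ≤ d →
      Subsingleton (Coh.HH X (Pic13.twistOn k i (CohB1.tensorMod ((Coh.push j).obj I) P) d) q) := by
    intro P hP q d hq hqd
    obtain ⟨G, T, hG, hGm, hTs, ⟨e₁⟩, ⟨e₂⟩, ⟨e₃⟩⟩ := hseq P hP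
    exact high_vanish i (AmpleVan.isCoh_tensor hM (AmpleVan.isCoh_invertible hP.1)) hG hGm hTs e₁ e₂ e₃ q d
      hq hqd
  have hec : ∀ P, NumTriv k P → ec k (PicF.cl ((Coh.push j).obj I) * (PicF.cl P * o i m₁)) =
      (hc k 0 (PicF.cl ((Coh.push j).obj I) * (PicF.cl P * o i m₁)) : ℤ) -
        (hc k 1 (PicF.cl ((Coh.push j).obj I) * (PicF.cl P * o i m₁)) : ℤ) := by
    intro P hP
    have e : PicF.cl ((Coh.push j).obj I) * (PicF.cl P * o i m₁) =
        PicF.cl (Pic13.twistOn k i (CohB1.tensorMod ((Coh.push j).obj I) P) m₁) := by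
      rw [cl_twistOn, H23.PicMul.cl_tensor, mul_assoc]
    rw [e, ec_cl, hc_cl, hc_cl, Euler.euler_eq_sum k _ 2 fun q hq => hhigh P hP q m₁ hq (by omega),
      Finset.sum_range_succ, Finset.sum_range_one]
    ring
  have hup : ∀ P, NumTriv k P → defect (k := k) i ((Coh.push j).obj I) (PicF.cl P) 0 ≤
      (A : ℤ) - ec k (PicF.cl ((Coh.push j).obj I) * o i m₁) := fun P hP => by
    rw [← defect_const i j ι hI hd IH hP m₁, defect, hec P hP]
    have := hA₁ P hP
    omega
  have hpow : ∀ P, NumTriv k P → ∀ l : ℕ,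
      defect (k := k) i ((Coh.push j).obj I) (PicF.cl (CohB1.tensorPow P l)) 0 =
        (l : ℤ) * defect (k := k) i ((Coh.push j).obj I) (PicF.cl P) 0 := by
    intro P hP l
    induction l with
    | zero => rw [H23.PicMul.cl_tensorPow, pow_zero, defect, one_mul, sub_self]; simp
    | succ l ih =>
      rw [H23.PicMul.cl_tensorPow, pow_succ, ← H23.PicMul.cl_tensorPow,
        defect_mul i hi j ι hI hd IH (numTriv_tensorPow hP l) hP, ih]
      push_cast; ring
  have hzero : ∀ P, NumTriv k P → defect (k := k) i ((Coh.push j).obj I) (PicF.cl P) 0 = 0 := by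
    have hle : ∀ P, NumTriv k P → defect (k := k) i ((Coh.push j).obj I) (PicF.cl P) 0 ≤ 0 := by
      intro P hP
      by_contra h
      have h1 := hup _ (numTriv_tensorPow hP
        (((A : ℤ) - ec k (PicF.cl ((Coh.push j).obj I) * o i m₁)).toNat + 1))
      rw [hpow P hP] at h1
      have h2 := Int.self_le_toNat ((A : ℤ) - ec k (PicF.cl ((Coh.push j).obj I) * o i m₁))
      have h3 : (1 : ℤ) ≤ defect (k := k) i ((Coh.push j).obj I) (PicF.cl P) 0 := by omega
      push_cast at h1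
      nlinarith [h1, h2, h3]
    intro P hP
    obtain ⟨P', hP', e⟩ := exists_inverse hP
    have := defect_mul i hi j ι hI hd IH hP hP'
    rw [e, defect, one_mul, sub_self] at this
    linarith [hle P hP, hle P' hP']
  have hchi : ∀ P, NumTriv k P → ∀ t : ℤ,
      ec k (PicF.cl ((Coh.push j).obj I) * (PicF.cl P * o i t)) =
        ec k (PicF.cl ((Coh.push j).obj I) * o i t) := fun P hP t => by
    have := (defect_const i j ι hI hd IH hP t).trans (hzero P hP)
    rw [defect] at this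
    omega
  refine ⟨hA, hchi, m₁ + 1 + ((A : ℤ) - ec k (PicF.cl ((Coh.push j).obj I) * o i m₁)).toNat,
    fun P hP q hq => ?_⟩
  rcases Nat.lt_or_ge q 2 with h | h
  · obtain rfl : q = 1 := by omega
    obtain ⟨G, T, hG, hGm, hTs, ⟨e₁⟩, ⟨e₂⟩, ⟨e₃⟩⟩ := hseq P hP
    refine one_vanish i (AmpleVan.isCoh_tensor hM (AmpleVan.isCoh_invertible hP.1)) hG hGm hTs e₁ e₂ e₃ hi _ ?_
    have h1 := hec P hP
    rw [hchi P hP] at h1
    have h2 := hA₁ P hP
    have e : hc k 1 (PicF.cl ((Coh.push j).obj I) * (PicF.cl P * o i m₁)) = Module.finrank k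
        (Coh.HH X (Pic13.twistOn k i (CohB1.tensorMod ((Coh.push j).obj I) P) (m₁ + 1 - 1)) 1) := by
      rw [add_sub_cancel_right, ← hc_cl (k := k), cl_twistOn, H23.PicMul.cl_tensor, mul_assoc]
    rw [e] at h1
    omega
  · exact hhigh P hP q _ h (by omega)

end Piece

include hi in
/-- Numerically trivial modules are bounded. -/
theorem good_of_isCoh {M : X.Modules} (hM : Coh.IsCoh M) : Good k i M := by
  haveI := CurveCohLib.isNoetherian_of_proper (k := k) (X := X)
  suffices h : ∀ d : ℕ, ∀ M : X.Modules, Coh.IsCoh M →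
      topologicalKrullDim ↥(CohB1.support M) < (d : WithBot ℕ∞) → Good k i M by
    refine h (n + 1) M hM (lt_of_le_of_lt ?_ (show (n : WithBot ℕ∞) < ((n + 1 : ℕ) : WithBot ℕ∞) by exact_mod_cast n.lt_succ_self))
    exact dim_support_le_of_closed i M
  intro d
  induction d with
  | zero =>
    intro M hM h
    exact good_of_isZero i (isZero_of_dim_lt_zero hM h)
  | succ d ih =>
    intro M hM h
    refine Posit43.devissage_pieces (Good k i) (fun e => good_of_iso i e) (fun hA => good_of_isZero i hA)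
      (fun S hS h1 h2 h3 a c => good_ext i hS h1 h2 h3 a c) (T := CohB1.support M) ?_ hM le_rfl
    intro Z j _ _ I ι _ hI _ hT
    exact good_piece i hi j ι hI ((H23.TopDim.dim_le_dim_of_subset hT).trans (le_of_lt_succ' h)) ih

end Groth.Agent.VarNum31
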