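import Groth.Agent.VarNum31.Lead
import Groth.Agent.VarNum31.Uniform
import Groth.Agent.VarNum31.Embed
import Groth.Agent.VarGrow31.MultiLip
import Groth.Agent.VarGrow31.Volume
import Groth.Agent.VarAmp.NoCurves

/-!
# Asymptotic cohomology depends only on the numerical class
-/

set_option linter.style.haveILetI false
set_option linter.unusedSectionVars false
set_option backward.isDefEq.respectTransparency false
set_option backward.isDefEq.respectTransparency.types false
set_option maxHeartbeats 1000000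

universe u

open CategoryTheory CategoryTheory.Limits AlgebraicGeometry TopologicalSpace Opposite Filter Topology
open scoped Groth.Agent.H23.PicMul

noncomputable section

namespace Groth.Agent.VarNum31

open Groth.Agent Groth.Agent.Pic13Lib Groth.Agent.VarGrow31

variable {k : Type u} [Field k] {X : Scheme.{u}} [X.Over (Spec (CommRingCat.of k))]
  [IsProper (X ↘ Spec (CommRingCat.of k))] {m : ℕ} (i : X ⟶ CohB1.ProjSpace m k) [IsClosedImmersion i]

include k in
theorem secAt_of_gg {N : X.Modules} (hN : PicF.IsInvertible N) (hgg : Curv2.IsGloballyGenerated N) :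
    SecAt N := by
  refine ⟨hN, fun x => ?_⟩
  obtain ⟨t, ht⟩ := VarAmp.exists_mem_locus_of_gg k hN hgg x
  refine ⟨InvX.ofSect t, ?_⟩
  rw [AmpleX.genLocus_eq_locus, InvX.one_ofSect]
  exact ht

variable (hi : i ≫ CohB1.ProjSpace.toSpec m k = X ↘ Spec (CommRingCat.of k))

include hi in
/-- A single twist makes the given module and all numerically trivial ones generated. -/
theorem exists_secAt_twist {L : X.Modules} (hL : PicF.IsInvertible L) :
    ∃ c₀ : ℤ, ∀ c, c₀ ≤ c → ∀ P, NumTriv k P → SecAt (CohB1.tensorMod (CohB1.tensorMod L P) (oX i c)) := by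
  haveI := CurveCohLib.isNoetherian_of_proper (k := k) (X := X)
  obtain ⟨c₀, h⟩ := (good_of_isCoh i hi (AmpleVan.isCoh_invertible hL)).reg
  refine ⟨c₀, fun c hc P hP => ?_⟩
  have hLP := H23.PicMul.isInvertible_tensor hL hP.1
  refine secAt_of_gg (k := k) (H23.PicMul.isInvertible_tensor hLP (isInvertible_oX i c)) ?_
  exact isGloballyGenerated_twistOn i (AmpleVan.isCoh_invertible hLP)
    (isMRegular_of_le i (AmpleVan.isCoh_invertible hLP) (h P hP) hc)

theorem sameCurveDeg_of_numTriv {A B P : X.Modules} (hA : PicF.IsInvertible A) (hB : PicF.IsInvertible B)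
    (hP : NumTriv k P) (h : PicF.cl A = PicF.cl B * PicF.cl P) : SameCurveDeg k A B := by
  intro Y ι _ hY hd
  letI := SurfInt.overComp k ι
  rw [SurfInt.curveDeg_eq k ι rfl hd.le hA, SurfInt.curveDeg_eq k ι rfl hd.le hB,
    SurfInt.degOn_congr k (H23.PicMul.cl_eq_iff.1 (h.trans (H23.PicMul.cl_tensor B P).symm)).some,
    degOn_tensor_curve hB hP.1 ι hd, (numEquivZero_iff hP.1).1 hP.2 Y ι hY hd, add_zero]

theorem inum_congr_num {e : ℕ} {M M' : Fin e → X.Modules} (hM : ∀ j, PicF.IsInvertible (M j))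
    (hM' : ∀ j, PicF.IsInvertible (M' j)) (h : ∀ j, SameCurveDeg k (M j) (M' j)) {F : X.Modules}
    (hF : Coh.IsCoh F) (hd : topologicalKrullDim ↥(CohB1.support F) ≤ (e : WithBot ℕ∞)) :
    inum k F M = inum k F M' := by
  rw [inum, inum, dn_congr_num k hM hM' h hF hd]

theorem hhat_congr {n q : ℕ} {A B : X.Modules} (h : PicF.cl A = PicF.cl B) :
    W4c5asymptcohfn.hhat k X n q A = W4c5asymptcohfn.hhat k X n q B := by
  have e : hp k A q = hp k B q := funext fun r => by
    obtain ⟨φ⟩ := H23.PicMul.cl_eq_iff.1 (show PicF.cl (CohB1.tensorPow A r) = PicF.cl (CohB1.tensorPow B r) by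
      rw [H23.PicMul.cl_tensorPow, H23.PicMul.cl_tensorPow, h])
    exact (CurveCohLib.hhEquiv (k := k) φ q).finrank_eq
  rw [hhat_eq, hhat_eq, e]

section Core

variable [IsIntegral X] {d : ℕ} (hd : topologicalKrullDim X = ((d + 1 : ℕ) : WithBot ℕ∞))

include hd in
/-- Along a family, a step by a module with sections everywhere costs its intersection number. -/
theorem exists_step_bound {r : ℕ} {L : Fin r → X.Modules} {H A : X.Modules} (hL : Adapted L H) (hH : SecAt H)
    (hA : SecAt A) (l : Fin r) (hl : PicF.cl (L l) = PicF.cl A) (q : ℕ) :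
    ∃ g, GrowLtM d g ∧ ∀ a,
      hm k L (Coh.structureModule X) q (a + Pi.single l 1) ≤ hm k L (Coh.structureModule X) q a +
          (inum k (Coh.structureModule X) (Fin.cons A fun _ : Fin d => H)).toNat * (∑ t, a t) ^ d + g a ∧
      hm k L (Coh.structureModule X) q a ≤ hm k L (Coh.structureModule X) q (a + Pi.single l 1) +
          (inum k (Coh.structureModule X) (Fin.cons A fun _ : Fin d => H)).toNat * (∑ t, a t) ^ d + g a := by
  haveI := CurveCohLib.isNoetherian_of_proper (k := k) (X := X)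
  have hLi : ∀ j, PicF.IsInvertible (L j) := fun j => (hL j).1
  obtain ⟨s, hs⟩ := hA.2 (genericPoint X)
  have hO : Coh.IsCoh (Coh.structureModule X) := QCoh.isCoh_structureModule'
  have hOA : Coh.IsCoh (CohB1.tensorMod (Coh.structureModule X) A) :=
    AmpleVan.isCoh_tensor hO (AmpleVan.isCoh_invertible hA.1)
  haveI := Posit43.mono_mulHom' s hs (Posit43.torFree_structure (X := X))
  let S := ShortComplex.mk (HilbPoly.mulHom s (Coh.structureModule X)) (cokernel.π _) (cokernel.condition _)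
  have hS : S.ShortExact :=
    .mk' (ShortComplex.exact_of_g_is_cokernel _ (cokernelIsCokernel _)) ‹_› inferInstance
  have h3 : Coh.IsCoh S.X₃ := QCoh.isCoh_cokernel hO.1 hOA _
  have hlt : topologicalKrullDim ↥(CohB1.support S.X₃) < ((d + 1 : ℕ) : WithBot ℕ∞) := by
    refine HilbPoly.dim_lt_closure (x := genericPoint X) ?_ (QCoh.isClosed_support_of_isFT h3.1 h3.2)
      (fun y _ => (genericPoint_specializes y).mem_closure) (Posit43.notMem_support_cokernel' s hs)
    exact (Topology.IsInducing.subtypeVal.topologicalKrullDim_le).trans hd.le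
  have d3 := SurfInt.le_of_lt_succ_dim hlt
  have hI : inum k S.X₃ (fun _ : Fin d => H) = inum k (Coh.structureModule X) (Fin.cons A fun _ : Fin d => H) :=
    (inum_cons_cut k (S := S) (fun _ => hH.1) hS hO hOA h3 (Iso.refl _)).symm
  obtain ⟨g, hg, hb⟩ := hm_le_inum k hL hH d h3 d3 q
  obtain ⟨g', hg', hb'⟩ := hm_le_inum k hL hH d h3 d3 (q - 1)
  refine ⟨fun a => g a + g' a, hg.add hg', fun a => ?_⟩
  have e2 : hm k L S.X₂ q a = hm k L (Coh.structureModule X) q (a + Pi.single l 1) := by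
    rw [hm, hm, cl_multiTwist_add, hl, show PicF.cl S.X₂ = PicF.cl (Coh.structureModule X) * PicF.cl A from
      H23.PicMul.cl_tensor _ _]
    congr 1
    ac_rfl
  have u := hb a
  have u' := hb' a
  rw [hI] at u u'
  dsimp only
  obtain ⟨x, y, z, -⟩ := multi_bounds k hLi hS hO hOA h3 (q - 1) a
  have w := (multi_bounds k hLi hS hO hOA h3 q a).1
  refine ⟨?_, ?_⟩
  · rw [← e2]
    change hm k L S.X₂ q a ≤ hm k L (Coh.structureModule X) q a + hm k L S.X₃ q a at w
    omega
  · rw [← e2]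
    change hm k L (Coh.structureModule X) q a ≤ _
    rcases Nat.eq_zero_or_pos q with hq | hq
    · subst hq
      change hm k L (Coh.structureModule X) 0 a ≤ hm k L S.X₂ 0 a at y
      omega
    · rw [show q - 1 + 1 = q by omega] at z
      change hm k L (Coh.structureModule X) q a ≤ hm k L S.X₂ q a + hm k L S.X₃ (q - 1) a at z
      omega

theorem exists_small_const {r d : ℕ} {g : (Fin r → ℕ) → ℕ} (hg : GrowLtM d g) :
    ∃ C : ℕ, ∀ a, g a * ((∑ t, a t) + 1) ≤ C * ((∑ t, a t) + 1) ^ d := by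
  cases d with
  | zero => exact ⟨0, fun a => by rw [hg a, zero_mul]; exact Nat.zero_le _⟩
  | succ d =>
    obtain ⟨C, hC⟩ := hg
    exact ⟨C, fun a => (Nat.mul_le_mul_right _ (hC a)).trans_eq (by rw [pow_succ, mul_assoc])⟩

theorem step_real' {x y K C q r d : ℕ} (hr : (0 : ℝ) < r)
    (h : x ≤ y + K * q ^ d * r ^ (d + 1) + C * (3 * q * r + 1) ^ d) :
    (x : ℝ) * ((d + 1).factorial : ℝ) / (r : ℝ) ^ (d + 1) ≤
      (y : ℝ) * ((d + 1).factorial : ℝ) / (r : ℝ) ^ (d + 1) + ((d + 1).factorial : ℝ) * ((K : ℝ) * (q : ℝ) ^ d +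
        (C : ℝ) * ((((3 * q : ℕ) : ℝ) + 1 / (r : ℝ)) ^ d * (1 / (r : ℝ)))) := by
  have h2 : (x : ℝ) ≤ y + (K : ℝ) * (q : ℝ) ^ d * (r : ℝ) ^ (d + 1) +
      (C : ℝ) * (3 * (q : ℝ) * (r : ℝ) + 1) ^ d := by exact_mod_cast h
  generalize ((d + 1).factorial) = c
  have e : (K : ℝ) * (q : ℝ) ^ d + (C : ℝ) * ((((3 * q : ℕ) : ℝ) + 1 / (r : ℝ)) ^ d * (1 / (r : ℝ))) =
      ((K : ℝ) * (q : ℝ) ^ d * (r : ℝ) ^ (d + 1) + (C : ℝ) * (3 * (q : ℝ) * (r : ℝ) + 1) ^ d) / (r : ℝ) ^ (d + 1) := by
    rw [show ((3 * q : ℕ) : ℝ) + 1 / (r : ℝ) = (3 * (q : ℝ) * r + 1) / r by push_cast; field_simp, div_pow,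
      pow_succ]
    field_simp
  rw [e, mul_div_assoc', ← add_div, mul_comm (c : ℝ), ← add_mul]
  refine div_le_div_of_nonneg_right (mul_le_mul_of_nonneg_right ?_ (Nat.cast_nonneg _)) (by positivity)
  linarith

include hd in
/-- The asymptotic cohomology of `L^q ⊗ Q(c)` is `q^n ĥ(L)` up to `O(q^(n-1))`, uniformly in `Q`. -/
theorem exists_hhat_near {L : X.Modules} (hL : PicF.IsInvertible L) {c : ℤ}
    (hLc : SecAt (CohB1.tensorMod L (oX i c)))
    (hPc : ∀ P, NumTriv k P → SecAt (CohB1.tensorMod P (oX i c))) (p : ℕ) :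
    ∃ K : ℝ, ∀ Q, NumTriv k Q → ∀ q : ℕ, 0 < q →
      |W4c5asymptcohfn.hhat k X (d + 1) p (CohB1.tensorMod (CohB1.tensorPow L q) (CohB1.tensorMod Q (oX i c))) -
        (q : ℝ) ^ (d + 1) * W4c5asymptcohfn.hhat k X (d + 1) p L| ≤ K * (q : ℝ) ^ d := by
  have hB := secAt_of_cl (B := oX i c) (hPc _ numTriv_structure)
    (by rw [H23.PicMul.cl_tensor, ← H23.PicMul.one_def, one_mul])
  let H' := CohB1.tensorMod (CohB1.tensorMod (CohB1.tensorMod L (oX i c)) (oX i c)) (oX i c)
  have hH' : SecAt H' := secAt_tensor (secAt_tensor hLc hB) hB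
  let K := (inum k (Coh.structureModule X) (Fin.cons (oX i c) fun _ : Fin d => H')).toNat
  refine ⟨((d + 1).factorial : ℝ) * ((K * 3 ^ d : ℕ) : ℝ), fun Q hQ q hq => ?_⟩
  have hA := hPc Q hQ
  let A := CohB1.tensorMod Q (oX i c)
  let H := CohB1.tensorMod (CohB1.tensorMod (CohB1.tensorMod L (oX i c)) (oX i c)) A
  have hH : SecAt H := secAt_tensor (secAt_tensor hLc hB) hA
  let F : Fin 3 → X.Modules := ![CohB1.tensorMod L (oX i c), oX i (-c), A]
  have hF : Adapted F H := by
    intro j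
    fin_cases j
    · exact ⟨hLc.1, _, CohB1.tensorMod (oX i c) A, hLc, secAt_tensor hB hA, Or.inl rfl, by
        simp only [H, A]; simp only [H23.PicMul.cl_tensor]; ac_rfl⟩
    · exact ⟨isInvertible_oX i (-c), _, CohB1.tensorMod (CohB1.tensorMod L (oX i c)) A, hB, secAt_tensor hLc hA,
        Or.inr (by show PicF.cl (oX i (-c)) * PicF.cl (oX i c) = 1; rw [← cl_oX_add, neg_add_cancel, cl_oX_zero]),
        by simp only [H, A]; simp only [H23.PicMul.cl_tensor]; ac_rfl⟩
    · exact ⟨hA.1, _, CohB1.tensorMod (CohB1.tensorMod L (oX i c)) (oX i c), hA, secAt_tensor hLc hB,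
        Or.inl rfl, by simp only [H, A]; simp only [H23.PicMul.cl_tensor]; ac_rfl⟩
  have hK : (inum k (Coh.structureModule X) (Fin.cons A fun _ : Fin d => H)).toNat = K := by
    haveI := CurveCohLib.isNoetherian_of_proper (k := k) (X := X)
    refine congrArg Int.toNat (inum_congr_num (isInvertible_cons hA.1 fun _ => hH.1)
      (isInvertible_cons hB.1 fun _ => hH'.1) ?_ QCoh.isCoh_structureModule'
      ((Topology.IsInducing.subtypeVal.topologicalKrullDim_le).trans hd.le))
    refine Fin.cases (sameCurveDeg_of_numTriv hA.1 hB.1 hQ ?_) fun _ => sameCurveDeg_of_numTriv hH.1 hH'.1 hQ ?_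
    · simp only [Fin.cons_zero, A, H23.PicMul.cl_tensor]; ac_rfl
    · simp only [Fin.cons_succ, H, H']
      simp only [A, H23.PicMul.cl_tensor]; ac_rfl
  obtain ⟨g, hg, hstep⟩ := exists_step_bound (k := k) hd hF hH (A := A) hA 2 rfl p
  obtain ⟨C, hC⟩ := exists_small_const hg
  rw [hK] at hstep
  let v : ℕ → ℕ → Fin 3 → ℕ := fun r j => ![q * r, q * r, j]
  have hv1 : ∀ r j, v r (j + 1) = v r j + Pi.single (2 : Fin 3) 1 := fun r j => by
    funext t; fin_cases t <;> simp [v]
  have hsum : ∀ r j, (∑ t, v r j t) = q * r + q * r + j := fun r j => by simp [v, Fin.sum_univ_three]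
  have hmain : ∀ r, hm k F (Coh.structureModule X) p (v r r) ≤
        hm k F (Coh.structureModule X) p (v r 0) + K * 3 ^ d * q ^ d * r ^ (d + 1) + C * (3 * q * r + 1) ^ d ∧
      hm k F (Coh.structureModule X) p (v r 0) ≤
        hm k F (Coh.structureModule X) p (v r r) + K * 3 ^ d * q ^ d * r ^ (d + 1) + C * (3 * q * r + 1) ^ d := by
    intro r
    have key : ∀ j, j ≤ r → ∃ G, G * (2 * (q * r) + 1) ≤ j * (C * (3 * q * r + 1) ^ d) ∧
        hm k F (Coh.structureModule X) p (v r j) ≤
          hm k F (Coh.structureModule X) p (v r 0) + j * (K * (3 * q * r) ^ d) + G ∧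
        hm k F (Coh.structureModule X) p (v r 0) ≤
          hm k F (Coh.structureModule X) p (v r j) + j * (K * (3 * q * r) ^ d) + G := by
      intro j
      induction j with
      | zero => intro _; exact ⟨0, by simp, by simp, by simp⟩
      | succ j ih =>
        intro hj
        obtain ⟨G, hG, h1, h2⟩ := ih (by omega)
        obtain ⟨s1, s2⟩ := hstep (v r j)
        rw [← hv1, hsum] at s1 s2
        have hc1 := hC (v r j)
        rw [hsum] at hc1
        have hqr : r ≤ q * r := Nat.le_mul_of_pos_left r hq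
        have hS : q * r + q * r + j ≤ 3 * q * r := by
          rw [show 3 * q * r = 3 * (q * r) by ring]; omega
        have hKS : K * (q * r + q * r + j) ^ d ≤ K * (3 * q * r) ^ d :=
          Nat.mul_le_mul_left _ (Nat.pow_le_pow_left hS _)
        refine ⟨G + g (v r j), ?_, ?_, ?_⟩
        · rw [add_mul, add_mul j 1, one_mul]
          refine add_le_add hG (((Nat.mul_le_mul_left _ ?_).trans hc1).trans
            (Nat.mul_le_mul_left _ (Nat.pow_le_pow_left ?_ _)))
          · omega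
          · omega
        · rw [Nat.succ_mul]; omega
        · rw [Nat.succ_mul]; omega
    obtain ⟨G, hG, h1, h2⟩ := key r le_rfl
    have hG' : G ≤ C * (3 * q * r + 1) ^ d := by
      by_contra hc
      have hqr : r ≤ q * r := Nat.le_mul_of_pos_left r hq
      have : (C * (3 * q * r + 1) ^ d + 1) * (2 * (q * r) + 1) ≤ r * (C * (3 * q * r + 1) ^ d) :=
        (Nat.mul_le_mul_right _ (by omega)).trans hG
      have := Nat.mul_le_mul_right (C * (3 * q * r + 1) ^ d) hqr
      generalize C * (3 * q * r + 1) ^ d = W at *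
      generalize q * r = T at *
      nlinarith [Nat.zero_le (W * T), Nat.zero_le T, Nat.zero_le W]
    have e : r * (K * (3 * q * r) ^ d) = K * 3 ^ d * q ^ d * r ^ (d + 1) := by
      rw [mul_pow, mul_pow, pow_succ]; ring
    rw [e] at h1 h2
    omega
  have hcl : ∀ r j, mclass F (v r j) = PicF.cl L ^ (q * r) * PicF.cl A ^ j := fun r j => by
    simp only [mclass, Fin.prod_univ_three, F, v, Matrix.cons_val_zero, Matrix.cons_val_one, Matrix.cons_val,
      H23.PicMul.cl_tensor]
    rw [← mul_pow, mul_assoc (PicF.cl L), ← cl_oX_add, add_neg_cancel, cl_oX_zero, mul_one]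
  have hv : ∀ j, (fun r => r • (![q, q, j] : Fin 3 → ℕ)) = fun r => v r (j * r) := fun j => funext fun r => by
    funext t; fin_cases t <;> simp [v, mul_comm]
  have eA : W4c5asymptcohfn.hhat k X (d + 1) p (CohB1.tensorMod (CohB1.tensorPow L q) A) =
      mhat k (d + 1) F p ![q, q, 1] := by
    refine hhat_eq_mhat k (d + 1) F p _ ?_
    have h := hcl 1 1
    simp only [v, mul_one, pow_one] at h
    rw [h, H23.PicMul.cl_tensor, H23.PicMul.cl_tensorPow]
  have e0 : (q : ℝ) ^ (d + 1) * W4c5asymptcohfn.hhat k X (d + 1) p L = mhat k (d + 1) F p ![q, q, 0] := by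
    rw [← hhat_eq_mhat k (d + 1) F p ![q, q, 0] (P := CohB1.tensorPow L q), hhat_eq, hhat_eq,
      limsup_hp_pow k hL hd hq p (Nat.cast_nonneg _)]
    have h := hcl 1 0
    simp only [v, mul_one, pow_zero] at h
    rw [h, H23.PicMul.cl_tensorPow]
  have hFi : ∀ j, PicF.IsInvertible (F j) := fun j => (hF j).1
  have hw : Tendsto (fun r : ℕ => ((d + 1).factorial : ℝ) * (((K * 3 ^ d : ℕ) : ℝ) * (q : ℝ) ^ d +
      (C : ℝ) * ((((3 * q : ℕ) : ℝ) + 1 / (r : ℝ)) ^ d * (1 / (r : ℝ))))) atTop
      (𝓝 (((d + 1).factorial : ℝ) * ((K * 3 ^ d : ℕ) : ℝ) * (q : ℝ) ^ d)) := by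
    have := ((((tendsto_affine_pow (3 * q) d).mul (tendsto_one_div_atTop_nhds_zero_nat (𝕜 := ℝ))).const_mul
      (C : ℝ)).const_add (((K * 3 ^ d : ℕ) : ℝ) * (q : ℝ) ^ d)).const_mul (((d + 1).factorial : ℝ))
    rw [mul_zero, mul_zero, add_zero, ← mul_assoc] at this
    exact this
  show |W4c5asymptcohfn.hhat k X (d + 1) p (CohB1.tensorMod (CohB1.tensorPow L q) A) - _| ≤ _
  rw [eA, e0, abs_le]
  have hb := fun a => mhat_bdd k hFi (n := d + 1) hd.le p a
  constructor
  · rw [neg_le_sub_iff_le_add', ← sub_le_iff_le_add]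
    refine limsup_sub_le_of_tendsto (normSeq_nonneg _ (Nat.cast_nonneg _) _) (normSeq_nonneg _ (Nat.cast_nonneg _) _)
      (hb _) ?_ hw
    filter_upwards [eventually_ge_atTop 1] with r hr
    simp only [normSeq, congrFun (hv 0) r, congrFun (hv 1) r, one_mul, zero_mul]
    exact step_real' (by exact_mod_cast hr) (hmain r).2
  · refine limsup_sub_le_of_tendsto (normSeq_nonneg _ (Nat.cast_nonneg _) _) (normSeq_nonneg _ (Nat.cast_nonneg _) _)
      (hb _) ?_ hw
    filter_upwards [eventually_ge_atTop 1] with r hr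
    simp only [normSeq, congrFun (hv 0) r, congrFun (hv 1) r, one_mul, zero_mul]
    exact step_real' (by exact_mod_cast hr) (hmain r).1

end Core

/-- Asymptotic cohomology is invariant under numerically trivial twists. -/
theorem hhat_tensor_numTriv [IsIntegral X] (hproj : ∃ A : X.Modules, CohB1.IsAmple A) {n : ℕ}
    (hn : topologicalKrullDim X = n) {L P : X.Modules} (hL : PicF.IsInvertible L) (hP : NumTriv k P) (p : ℕ) :
    W4c5asymptcohfn.hhat k X n p (CohB1.tensorMod L P) = W4c5asymptcohfn.hhat k X n p L := by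
  cases n with
  | zero =>
    have hinv : ∀ j, PicF.IsInvertible ((![L, P] : Fin 2 → X.Modules) j) := fun j => by
      fin_cases j
      exacts [hL, hP.1]
    obtain ⟨C, hC0, hC⟩ := exists_lipschitz_mhat k hinv hn.le p
    have h := hC ![1, 1] ![1, 0]
    rw [hC0 rfl] at h
    have h' : mhat k 0 ![L, P] p ![1, 1] = mhat k 0 ![L, P] p ![1, 0] := by
      have := abs_nonneg (mhat k 0 ![L, P] p ![1, 1] - mhat k 0 ![L, P] p ![1, 0])
      simp only [Nat.cast_zero, zero_mul] at h
      exact sub_eq_zero.1 (abs_eq_zero.1 (le_antisymm h this))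
    rw [hhat_eq_mhat k 0 ![L, P] p ![1, 1] (P := CohB1.tensorMod L P)
      (by simp [mclass, Fin.prod_univ_two, H23.PicMul.cl_tensor]),
      hhat_eq_mhat k 0 ![L, P] p ![1, 0] (P := L) (by simp [mclass, Fin.prod_univ_two]), h']
  | succ d =>
    obtain ⟨A, hA⟩ := hproj
    obtain ⟨m, i, b, -, hcl, hi, -⟩ := exists_closedImmersion_pow (X ↘ Spec (CommRingCat.of k)) hA
    haveI := hcl
    have hLP := H23.PicMul.isInvertible_tensor hL hP.1
    obtain ⟨c₁, hc₁⟩ := exists_secAt_twist i hi hL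
    obtain ⟨c₂, hc₂⟩ := exists_secAt_twist i hi hLP
    obtain ⟨c₃, hc₃⟩ := exists_secAt_twist i hi (PicLoc.isInvertible_structureModule X)
    let c := max c₁ (max c₂ c₃)
    have hsec : ∀ P, NumTriv k P → SecAt (CohB1.tensorMod P (oX i c)) := fun P hP =>
      secAt_of_cl (hc₃ c ((le_max_right _ _).trans (le_max_right _ _)) P hP) (by
        simp only [H23.PicMul.cl_tensor]; rw [← H23.PicMul.one_def, one_mul])
    have hone : ∀ {L : X.Modules} {c₀ : ℤ}, (∀ c, c₀ ≤ c → ∀ P, NumTriv k P →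
        SecAt (CohB1.tensorMod (CohB1.tensorMod L P) (oX i c))) → c₀ ≤ c → SecAt (CohB1.tensorMod L (oX i c)) :=
      fun {L c₀} h hc => secAt_of_cl (h c hc _ numTriv_structure) (by
        simp only [H23.PicMul.cl_tensor]; rw [← H23.PicMul.one_def, mul_one])
    obtain ⟨K₁, hK₁⟩ := exists_hhat_near i hn hL (hone hc₁ (le_max_left _ _)) hsec p
    obtain ⟨K₂, hK₂⟩ := exists_hhat_near i hn hLP
      (hone hc₂ ((le_max_left _ _).trans (le_max_right _ _))) hsec p
    obtain ⟨P', hP', hPP'⟩ := exists_inverse hP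
    have key : ∀ q : ℕ, 0 < q → (q : ℝ) * |W4c5asymptcohfn.hhat k X (d + 1) p (CohB1.tensorMod L P) -
        W4c5asymptcohfn.hhat k X (d + 1) p L| ≤ K₁ + K₂ := by
      intro q hq
      have h1 := hK₁ _ numTriv_structure q hq
      have h2 := hK₂ _ (numTriv_tensorPow hP' q) q hq
      rw [hhat_congr (A := CohB1.tensorMod (CohB1.tensorPow (CohB1.tensorMod L P) q)
          (CohB1.tensorMod (CohB1.tensorPow P' q) (oX i c)))
        (B := CohB1.tensorMod (CohB1.tensorPow L q) (CohB1.tensorMod (Coh.structureModule X) (oX i c))) (by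
          simp only [H23.PicMul.cl_tensor, H23.PicMul.cl_tensorPow]
          rw [← H23.PicMul.one_def, one_mul, mul_pow, mul_assoc, ← mul_assoc (PicF.cl P ^ q), ← mul_pow, hPP',
            one_pow, one_mul])] at h2
      have h3 := abs_sub_le (W4c5asymptcohfn.hhat k X (d + 1) p (CohB1.tensorMod L P) * (q : ℝ) ^ (d + 1))
        (W4c5asymptcohfn.hhat k X (d + 1) p
          (CohB1.tensorMod (CohB1.tensorPow L q) (CohB1.tensorMod (Coh.structureModule X) (oX i c))))
        (W4c5asymptcohfn.hhat k X (d + 1) p L * (q : ℝ) ^ (d + 1))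
      rw [← sub_mul, abs_mul, abs_of_nonneg (by positivity : (0 : ℝ) ≤ (q : ℝ) ^ (d + 1)),
        abs_sub_comm (_ * _), mul_comm _ ((q : ℝ) ^ (d + 1)), mul_comm (W4c5asymptcohfn.hhat k X (d + 1) p (CohB1.tensorMod L P)) ((q : ℝ) ^ (d + 1)),
        mul_comm (W4c5asymptcohfn.hhat k X (d + 1) p L) ((q : ℝ) ^ (d + 1))] at h3
      refine le_of_mul_le_mul_left ?_ (pow_pos (by exact_mod_cast hq : (0 : ℝ) < (q : ℝ)) d)
      rw [← mul_assoc, ← pow_succ]
      linarith
    by_contra hne
    have hpos := abs_pos.2 (sub_ne_zero.2 hne)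
    obtain ⟨q, hq⟩ := exists_nat_gt ((K₁ + K₂) / |W4c5asymptcohfn.hhat k X (d + 1) p (CohB1.tensorMod L P) -
      W4c5asymptcohfn.hhat k X (d + 1) p L|)
    have hK0 : 0 ≤ K₁ + K₂ := by
      have := key 1 one_pos
      simp only [Nat.cast_one, one_mul] at this
      linarith
    have hq0 : 0 < q := by
      have := lt_of_le_of_lt (div_nonneg hK0 hpos.le) hq
      exact_mod_cast this
    rw [div_lt_iff₀ hpos] at hq
    linarith [key q hq0]

end Groth.Agent.VarNum31
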