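import Groth.Agent.VarNum31.Invariance
import Groth.Agent.Lib.AmpleEmbed
import Groth.Prelude.Def_LCI2
import Mathlib.AlgebraicGeometry.ZariskisMainTheorem

/-!
# `O(1)` tensor a globally generated module is very ample
-/

noncomputable section

set_option linter.style.haveILetI false
set_option linter.unusedSectionVars false
set_option backward.isDefEq.respectTransparency false
set_option backward.isDefEq.respectTransparency.types false
set_option maxHeartbeats 1000000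

universe u

open CategoryTheory CategoryTheory.Limits AlgebraicGeometry TopologicalSpace HomogeneousLocalization
open scoped Groth.Agent.H23.PicMul

namespace Groth.Agent.VarNum31

open Groth.Agent Groth.Agent.InvX Groth.Agent.H23

variable {k : Type u} [Field k] {n : ℕ}

/-- Constants in a chart are pulled back from the base. -/
theorem appLE_cst {T : Scheme.{u}} (g : T ⟶ CohB1.ProjSpace n k) (l : Fin (n + 1))
    (hg : (⊤ : T.Opens) ≤ g ⁻¹ᵁ Proj.basicOpen (CohB1.polyGrading n k) (MvPolynomial.X l)) (c : k) :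
    g.appLE (Proj.basicOpen (CohB1.polyGrading n k) (MvPolynomial.X l)) ⊤ hg
        ((Proj.awayToSection (CohB1.polyGrading n k) (MvPolynomial.X l)).hom (ProjPt.cst l c)) =
      (g ≫ CohB1.ProjSpace.toSpec n k).appTop ((Scheme.ΓSpecIso (CommRingCat.of k)).inv c) := by
  let 𝒜 := CohB1.polyGrading n k
  let t : MvPolynomial (Fin (n + 1)) k := MvPolynomial.X l
  have ht : t ∈ 𝒜 1 := ProjPt.X_mem l
  let w := Proj.toSpecZero 𝒜 ≫ Spec.map (CommRingCat.ofHom (algebraMap k (𝒜 0)))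
  let V := Proj.basicOpen 𝒜 t
  have hw : AModX.resR (le_top : V ≤ ⊤) (w.appTop ((Scheme.ΓSpecIso (CommRingCat.of k)).inv c)) =
      (Proj.awayToSection 𝒜 t).hom (fromZeroRingHom 𝒜 _ (algebraMap k (𝒜 0) c)) := by
    have hc : Proj.awayι 𝒜 t ht one_pos ≫ w = Spec.map (CommRingCat.ofHom
        ((fromZeroRingHom 𝒜 (Submonoid.powers t)).comp (algebraMap k (𝒜 0)))) := by
      simp only [w, Proj.awayι_toSpecZero_assoc, ← Spec.map_comp, ← CommRingCat.ofHom_comp]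
    have e1 : (⊤ : (Spec (CommRingCat.of (Away 𝒜 t))).Opens) ≤ Proj.awayι 𝒜 t ht one_pos ⁻¹ᵁ V := by
      show _ ≤ _ ⁻¹ᵁ Proj.basicOpen 𝒜 t
      rw [← Proj.opensRange_awayι 𝒜 t ht one_pos, Scheme.Hom.preimage_opensRange]
    have hinj : Function.Injective ((Proj.awayι 𝒜 t ht one_pos).appLE V ⊤ e1) := by
      have hcomp := ProjPt.awayι_appLE 𝒜 ht one_pos e1
      have : IsIso (Proj.awayToSection 𝒜 t) := by
        rw [← Proj.basicOpenIsoAway_hom 𝒜 t ht one_pos]; infer_instance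
      have : IsIso ((Proj.awayι 𝒜 t ht one_pos).appLE V ⊤ e1) := by
        have : IsIso (Proj.awayToSection 𝒜 t ≫ (Proj.awayι 𝒜 t ht one_pos).appLE V ⊤ e1) := by
          rw [hcomp]; infer_instance
        exact IsIso.of_isIso_comp_left (Proj.awayToSection 𝒜 t) _
      exact ((ConcreteCategory.isIso_iff_bijective _).1 this).1
    apply hinj
    rw [← CommRingCat.comp_apply (Proj.awayToSection 𝒜 t), ProjPt.awayι_appLE 𝒜 ht one_pos e1]
    refine (ConcreteCategory.congr_hom (Scheme.Hom.map_appLE _ e1 (homOfLE le_top).op) _).trans ?_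
    rw [← CommRingCat.comp_apply w.appTop, show (Proj.awayι 𝒜 t ht one_pos).appLE ⊤ ⊤ le_top =
      (Proj.awayι 𝒜 t ht one_pos).appTop from (Scheme.Hom.app_eq_appLE _ (U := ⊤)).symm,
      ← Scheme.Hom.comp_appTop, hc]
    exact (ConcreteCategory.congr_hom (Scheme.ΓSpecIso_inv_naturality (CommRingCat.ofHom
      ((fromZeroRingHom 𝒜 (Submonoid.powers t)).comp (algebraMap k (𝒜 0))))) c).symm
  show g.appLE V ⊤ hg ((Proj.awayToSection 𝒜 t).hom (fromZeroRingHom 𝒜 _ (algebraMap k (𝒜 0) c))) = _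
  rw [← hw, show (g ≫ CohB1.ProjSpace.toSpec n k).appTop = w.appTop ≫ g.appTop from Scheme.Hom.comp_appTop g w]
  refine Eq.trans (ConcreteCategory.congr_hom (Scheme.Hom.map_appLE g hg (homOfLE le_top).op) _) ?_
  rw [CommRingCat.comp_apply, Scheme.Hom.appTop, Scheme.Hom.appTop, Scheme.Hom.app_eq_appLE w,
    Scheme.Hom.app_eq_appLE g]
  rfl

/-- Two maps into one chart agree when they agree on constants and coordinates. -/
theorem eq_of_chart {T : Scheme.{u}} (g g' : T ⟶ CohB1.ProjSpace n k) (l : Fin (n + 1))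
    (hg : (⊤ : T.Opens) ≤ g ⁻¹ᵁ Proj.basicOpen (CohB1.polyGrading n k) (MvPolynomial.X l))
    (hg' : (⊤ : T.Opens) ≤ g' ⁻¹ᵁ Proj.basicOpen (CohB1.polyGrading n k) (MvPolynomial.X l))
    (hb : g ≫ CohB1.ProjSpace.toSpec n k = g' ≫ CohB1.ProjSpace.toSpec n k)
    (hr : ∀ m, ProjUPX.ratioOf g (ProjPt.X_mem m) (ProjPt.X_mem l) hg =
      ProjUPX.ratioOf g' (ProjPt.X_mem m) (ProjPt.X_mem l) hg') : g = g' := by
  have h := ProjUPX.ι_eq_of_appLE (𝒜 := CohB1.polyGrading n k) (ProjPt.X_mem l) g g' hg hg' (by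
    apply CommRingCat.hom_ext
    refine ProjPt.away_ext l _ _ ?_ fun m => hr m
    ext c
    show g.appLE _ ⊤ hg ((Proj.awayToSection (CohB1.polyGrading n k) (MvPolynomial.X l)).hom (ProjPt.cst l c)) =
      g'.appLE _ ⊤ hg' ((Proj.awayToSection (CohB1.polyGrading n k) (MvPolynomial.X l)).hom (ProjPt.cst l c))
    rw [appLE_cst g l hg, appLE_cst g' l hg', hb])
  haveI : IsIso (⊤ : T.Opens).ι := (Scheme.topIso T).isIso_hom
  exact (cancel_epi (⊤ : T.Opens).ι).1 h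

theorem one_tmul_locus {X : Scheme.{u}} {M N : X.Modules} (hM : PicF.IsInvertible M) (hN : PicF.IsInvertible N)
    (s : Γ(M, ⊤)) (t : Γ(N, ⊤)) :
    TrivBasic.locus (InvX.tmul s t) = TrivBasic.locus s ⊓ TrivBasic.locus t := by
  have h := InvX.genLocus_mulHom hM hN (InvX.ofSect s) (InvX.ofSect t)
  rw [InvX.mulHom, InvX.one_ofSect, InvX.one_ofSect] at h
  exact h

theorem span_eq_top_of_locus {X : Scheme.{u}} {M : X.Modules} {ν : ℕ} (u : Fin (ν + 1) → Γ(M, ⊤))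
    (hcov : ∀ x, ∃ p, x ∈ TrivBasic.locus (u p)) : ProjUP.GeneratedBy M u := fun x => by
  obtain ⟨p, hp⟩ := hcov x
  refine eq_top_iff.2 fun z _ => ?_
  obtain ⟨c, hc⟩ :=
    ((TrivBasic.isFrame_res_of_le_locus (le_refl (TrivBasic.locus (u p)))).germ_bijective hp).2 z
  rw [← hc]
  refine Submodule.smul_mem _ c (Submodule.subset_span ⟨p, ?_⟩)
  show (M.presheaf.germ ⊤ x trivial).hom (u p) = _
  exact (InvX.germ_res' (le_top : TrivBasic.locus (u p) ≤ ⊤) hp (u p)).symm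

theorem appLE_appLE_apply {A B C : Scheme.{u}} (c : A ⟶ B) (s : B ⟶ C) {D : C.Opens} {U : B.Opens}
    {W : A.Opens} (h : U ≤ s ⁻¹ᵁ D) (hc : W ≤ c ⁻¹ᵁ U) (y : Γ(C, D)) :
    c.appLE U W hc (s.appLE D U h y) = (c ≫ s).appLE D W (fun _ hz => h (hc hz)) y := by
  rw [← CommRingCat.comp_apply, Scheme.Hom.appLE_comp_appLE]

/-- `O(1) ⊗ N` is very ample for `N` invertible with sections everywhere. -/
theorem isRelVeryAmplePn_tensor {X : Scheme.{u}} [Nonempty X] (f : X ⟶ Spec (CommRingCat.of k)) [IsProper f]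
    (r : X ⟶ CohB1.ProjSpace n k) [IsClosedImmersion r] (hr : r ≫ CohB1.ProjSpace.toSpec n k = f)
    {N M : X.Modules} (hN : SecAt N) (hM : PicF.cl M = PicF.cl (Pic13Lib.oX r 1) * PicF.cl N) :
    RelAmple.IsRelVeryAmplePn f M := by
  classical
  obtain ⟨e⟩ := H23.PicMul.cl_eq_iff.1 (hM.trans (H23.PicMul.cl_tensor (Pic13Lib.oX r 1) N).symm)
  haveI : CompactSpace X := QuasiCompact.compactSpace_of_compactSpace f
  let O1 := Pic13Lib.oX r 1
  have hO1 := Pic13Lib.isInvertible_oX r 1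
  have hL : PicF.IsInvertible (CohB1.tensorMod O1 N) := H23.PicMul.isInvertible_tensor hO1 hN.1
  let xs : Fin (n + 1) → Γ(O1, ⊤) := fun l =>
    ProjUP.pullSec r (Twist.twistProjSpace n k 1) (ProjUP.coord n k l)
  have hxs : ∀ l, r ⁻¹ᵁ Proj.basicOpen (CohB1.polyGrading n k) (MvPolynomial.X l) = TrivBasic.locus (xs l) :=
    fun l => AmpleEmbed.preimage_chart r (Iso.refl _) l rfl
  choose τ hτ using fun x => hN.2 x
  obtain ⟨J, hJ⟩ := isCompact_univ.elim_finite_subcover (fun x => (CohB1.genLocus N (τ x) : Set X))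
    (fun x => (CohB1.genLocus N (τ x)).isOpen) fun x _ => Set.mem_iUnion.2 ⟨x, hτ x⟩
  let ts : J → Γ(N, ⊤) := fun x => InvX.one (τ x.1)
  have hts : ∀ x, ∃ j, x ∈ TrivBasic.locus (ts j) := fun x => by
    obtain ⟨y, hy, hxy⟩ := Set.mem_iUnion₂.1 (hJ (Set.mem_univ x))
    refine ⟨⟨y, hy⟩, ?_⟩
    show x ∈ CohB1.genLocus N (InvX.ofSect (InvX.one (τ y)))
    rw [AmpleX.genLocus_eq_locus, InvX.one_ofSect, ← AmpleX.genLocus_eq_locus]
    exact hxy
  obtain ⟨x₀⟩ := ‹Nonempty X›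
  obtain ⟨ν, ⟨E⟩⟩ : ∃ ν, Nonempty (Fin (ν + 1) ≃ Fin (n + 1) × J) := by
    obtain ⟨j, -⟩ := hts x₀
    haveI : Nonempty (Fin (n + 1) × J) := ⟨(0, j)⟩
    obtain ⟨ν, hν⟩ := Nat.exists_eq_add_one.2 (Fintype.card_pos (α := Fin (n + 1) × J))
    exact ⟨ν, ⟨(finCongr hν.symm).trans (Fintype.equivFin _).symm⟩⟩
  let L := CohB1.tensorMod O1 N
  let u : Fin (ν + 1) → Γ(L, ⊤) := fun p => InvX.tmul (xs (E p).1) (ts (E p).2)
  have hloc : ∀ p, TrivBasic.locus (u p) = TrivBasic.locus (xs (E p).1) ⊓ TrivBasic.locus (ts (E p).2) :=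
    fun p => one_tmul_locus hO1 hN.1 _ _
  have hcov : ∀ x, ∃ p, x ∈ TrivBasic.locus (u p) := fun x => by
    obtain ⟨j, hj⟩ := hts x
    obtain ⟨l, hl⟩ : ∃ l, r x ∈ Proj.basicOpen (CohB1.polyGrading n k) (MvPolynomial.X l) :=
      Opens.mem_iSup.1 ((AmpleEmbed.iSup_basicOpen_X n k).ge (Set.mem_univ (r x)))
    refine ⟨E.symm (l, j), ?_⟩
    rw [hloc, Equiv.apply_symm_apply]
    exact ⟨(hxs l).le hl, hj⟩
  let Z := ULift.{u} ℤ
  let pr₁ := pullback.fst (CohB1.ProjSpace.toSpec ν Z) (specULiftZIsTerminal.from (Spec (CommRingCat.of k)))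
  let pr₂ := pullback.snd (CohB1.ProjSpace.toSpec ν Z) (specULiftZIsTerminal.from (Spec (CommRingCat.of k)))
  obtain ⟨r₀, hr₀, τ₀, hτ₀⟩ := S3572.result ν (specULiftZIsTerminal.from X) L hL u (span_eq_top_of_locus u hcov)
  let ρ : X ⟶ CohB1.ProjSpaceOver ν (Spec (CommRingCat.of k)) :=
    pullback.lift r₀ f (specULiftZIsTerminal.hom_ext _ _)
  have hρ₁ : ρ ≫ pr₁ = r₀ := pullback.lift_fst _ _ _
  have hρ₂ : ρ ≫ pr₂ = f := pullback.lift_snd _ _ _
  let D₀ : Fin (ν + 1) → (CohB1.ProjSpace ν Z).Opens := fun p =>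
    Proj.basicOpen (CohB1.polyGrading ν Z) (MvPolynomial.X p)
  let U : Fin (ν + 1) → X.Opens := fun p => TrivBasic.locus (u p)
  have hpre : ∀ p, r₀ ⁻¹ᵁ D₀ p = U p := fun p => AmpleEmbed.preimage_chart r₀ τ₀ p (hτ₀ p)
  have hUx : ∀ p, U p ≤ r ⁻¹ᵁ Proj.basicOpen (CohB1.polyGrading n k) (MvPolynomial.X (E p).1) := fun p =>
    ((hloc p).le.trans inf_le_left).trans (hxs _).ge
  -- ratios of `r` are ratios of `r₀`
  have hα : ∀ p m, ProjUPX.ratioOf r₀ (ProjPt.X_mem (E.symm (m, (E p).2))) (ProjPt.X_mem p) (hpre p).ge =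
      ProjUPX.ratioOf r (ProjPt.X_mem m) (ProjPt.X_mem (E p).1) (hUx p) := fun p m => by
    obtain ⟨α, hαe⟩ := (TrivBasic.isFrame_res_of_le_locus ((hloc p).le.trans inf_le_left)).exists_coord le_rfl
      (AModX.res O1 (le_top : U p ≤ ⊤) (xs m))
    rw [AModX.res_self] at hαe
    rw [AmpleEmbed.ratioOf_eq r (Iso.refl _) (E p).1 m rfl rfl (hUx p) α hαe]
    refine AmpleEmbed.ratioOf_eq r₀ τ₀ p _ (hτ₀ p) (hτ₀ _) (hpre p).ge α ?_
    simp only [u, Equiv.apply_symm_apply]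
    rw [InvX.res_tmul, InvX.res_tmul, hαe, InvX.tmul_smul_left]
  haveI hp : IsProper (CohB1.ProjSpace.toSpec ν Z) := PnCoh.Chow.isProper_toSpec ν Z
  haveI : IsProper pr₂ := MorphismProperty.pullback_snd _ _ hp
  haveI : IsProper ρ := by
    haveI : IsProper (ρ ≫ pr₂) := hρ₂ ▸ ‹IsProper f›
    exact IsProper.of_comp ρ pr₂
  haveI : Mono ρ := ⟨fun {T} a b hab => by
    refine (cancel_mono r).1 ?_
    have h0 : a ≫ r₀ = b ≫ r₀ := by rw [← hρ₁, ← Category.assoc, hab, Category.assoc]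
    have hf : a ≫ f = b ≫ f := by rw [← hρ₂, ← Category.assoc, hab, Category.assoc]
    refine Scheme.Cover.hom_ext (T.openCoverOfIsOpenCover (fun p => a ⁻¹ᵁ U p)
      (IsOpenCover.mk (eq_top_iff.2 fun x _ => Opens.mem_iSup.2 (hcov (a x))))) _ _ fun (p : Fin (ν + 1)) => ?_
    let V : T.Opens := a ⁻¹ᵁ U p
    show V.ι ≫ a ≫ r = V.ι ≫ b ≫ r
    have ha : (⊤ : V.toScheme.Opens) ≤ (V.ι ≫ a) ⁻¹ᵁ U p := fun z _ => z.2
    have hb : (⊤ : V.toScheme.Opens) ≤ (V.ι ≫ b) ⁻¹ᵁ U p := fun z _ => by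
      refine (hpre p).le (show (V.ι ≫ b) z ∈ r₀ ⁻¹ᵁ D₀ p from ?_)
      show ((V.ι ≫ b) ≫ r₀) z ∈ D₀ p
      rw [Category.assoc, ← h0, ← Category.assoc]
      exact (hpre p).ge (ha (Set.mem_univ z))
    rw [← Category.assoc, ← Category.assoc]
    refine eq_of_chart _ _ (E p).1 (fun z hz => hUx p (ha hz)) (fun z hz => hUx p (hb hz))
      (by simp only [Category.assoc, hr, hf]) fun m => ?_
    have key : ∀ (c : V.toScheme ⟶ X) (hc : (⊤ : V.toScheme.Opens) ≤ c ⁻¹ᵁ U p),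
        ProjUPX.ratioOf (c ≫ r) (ProjPt.X_mem m) (ProjPt.X_mem (E p).1) (fun z hz => hUx p (hc hz)) =
          ProjUPX.ratioOf (c ≫ r₀) (ProjPt.X_mem (E.symm (m, (E p).2))) (ProjPt.X_mem p)
            (fun z hz => (hpre p).ge (hc hz)) := fun c hc => by
      have e1 := congrArg (c.appLE (U p) ⊤ hc) (hα p m)
      unfold ProjUPX.ratioOf at e1 ⊢
      rw [appLE_appLE_apply, appLE_appLE_apply] at e1
      exact e1.symm
    rw [key _ ha, key _ hb]
    have e2 : (V.ι ≫ a) ≫ r₀ = (V.ι ≫ b) ≫ r₀ := by rw [Category.assoc, Category.assoc, h0]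
    simp only [e2]⟩
  haveI : IsClosedImmersion ρ := (IsClosedImmersion.iff_isProper_and_mono ρ).2 ⟨‹_›, ‹_›⟩
  exact ⟨ν, ρ, inferInstance, hρ₂, ⟨e ≪≫ τ₀.symm ≪≫
    eqToIso (congrArg (fun q => (Scheme.Modules.pullback q).obj (Twist.twistProjSpace ν Z 1)) hρ₁.symm) ≪≫
    ((Scheme.Modules.pullbackComp ρ pr₁).app _).symm⟩⟩

end Groth.Agent.VarNum31
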