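import Groth.Agent.VarNum31.Sect
import Groth.Agent.VarGrow31.Multi
import Groth.Agent.Posit43.Sections
import Groth.Agent.Posit43.Nakai
import Groth.Agent.Pic13Lib.NumInv
import Groth.Agent.Lib.Euler

/-!
# Growth of cohomology along twists, bounded by the intersection number

For modules `L_j` each of which, or whose inverse, has sections everywhere and divides `H`,
`dim H^i(X, F ⊗ L^a) ≤ (H^e · F) (∑ a)^e + o((∑ a)^e)` when the support of `F` has dimension at most `e`.
-/

set_option linter.style.haveILetI false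
set_option linter.unusedSectionVars false
set_option backward.isDefEq.respectTransparency false
set_option backward.isDefEq.respectTransparency.types false
set_option maxHeartbeats 1000000

universe u

open CategoryTheory CategoryTheory.Limits AlgebraicGeometry TopologicalSpace Opposite
open scoped Groth.Agent.H23.PicMul

noncomputable section

namespace Groth.Agent.VarNum31

open Groth.Agent Groth.Agent.VarGrow31

/-- An invertible module with a section not vanishing at any given point. -/
def SecAt {X : Scheme.{u}} (N : X.Modules) : Prop :=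
  PicF.IsInvertible N ∧ ∀ x : X, ∃ s : Coh.structureModule X ⟶ N, x ∈ CohB1.genLocus N s

theorem secAt_tensor {X : Scheme.{u}} {A B : X.Modules} (hA : SecAt A) (hB : SecAt B) :
    SecAt (CohB1.tensorMod A B) := by
  refine ⟨H23.PicMul.isInvertible_tensor hA.1 hB.1, fun x => ?_⟩
  obtain ⟨s, hs⟩ := hA.2 x
  obtain ⟨t, ht⟩ := hB.2 x
  exact ⟨InvX.mulHom s t, by rw [InvX.genLocus_mulHom hA.1 hB.1]; exact ⟨hs, ht⟩⟩

theorem secAt_of_cl {X : Scheme.{u}} {A B : X.Modules} (hA : SecAt A) (h : PicF.cl A = PicF.cl B) : SecAt B := by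
  refine ⟨H23.PicMul.isInvertible_of_iso (H23.PicMul.cl_eq_iff.1 h).some hA.1, fun x => ?_⟩
  obtain ⟨s, hs⟩ := hA.2 x
  obtain ⟨t, ht⟩ := AmpleX.exists_section_of_cl_eq h s
  exact ⟨t, ht ▸ hs⟩

variable {r : ℕ}

theorem growLtM_shift {d : ℕ} {g : (Fin r → ℕ) → ℕ} (h : GrowLtM d g) (l : Fin r) :
    GrowLtM d fun a => g (a + Pi.single l 1) := by
  classical
  cases d with
  | zero => exact fun a => h _
  | succ d =>
    obtain ⟨C, hC⟩ := h
    refine ⟨C * 2 ^ d, fun a => (hC _).trans ?_⟩
    rw [mul_assoc, ← mul_pow]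
    refine Nat.mul_le_mul_left _ (Nat.pow_le_pow_left ?_ _)
    simp only [Pi.add_apply, Finset.sum_add_distrib, Finset.sum_pi_single', Finset.mem_univ, if_true]
    omega

/-- Summing increments bounded by `K S^e` to leading order gives `K S^(e+1)` to leading order. -/
theorem exists_bound_of_step {e K : ℕ} {f g : (Fin r → ℕ) → ℕ} (hg : GrowLtM e g)
    (h : ∀ a j, f (a + Pi.single j 1) ≤ f a + K * ((∑ l, a l) + 1) ^ e + g a) :
    ∃ g', GrowLtM (e + 1) g' ∧ ∀ a, f a ≤ K * (∑ l, a l) ^ (e + 1) + g' a := by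
  classical
  refine ⟨fun a => f a - K * (∑ l, a l) ^ (e + 1), GrowLtM.of_step hg fun a j => ?_, fun a => le_add_tsub⟩
  have hsum : (∑ l, (a + Pi.single j 1 : Fin r → ℕ) l) = (∑ l, a l) + 1 := by
    simp [Finset.sum_add_distrib]
  rw [hsum]
  have hp : K * (∑ l, a l) ^ (e + 1) + K * ((∑ l, a l) + 1) ^ e ≤ K * ((∑ l, a l) + 1) ^ (e + 1) := by
    generalize (∑ l, a l) = S
    rw [← mul_add]
    refine Nat.mul_le_mul_left _ ?_
    calc S ^ (e + 1) + (S + 1) ^ e ≤ (S + 1) ^ e * S + (S + 1) ^ e := by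
          rw [pow_succ]; exact Nat.add_le_add_right (Nat.mul_le_mul_right _ (Nat.pow_le_pow_left (by omega) _)) _
      _ = (S + 1) ^ (e + 1) := by rw [pow_succ]; ring
  have := h a j
  omega

variable (k : Type u) [Field k] {X : Scheme.{u}} [X.Over (Spec (CommRingCat.of k))]
  [IsProper (X ↘ Spec (CommRingCat.of k))]

/-- The intersection number of `e` classes with `F`. -/
def inum {e : ℕ} (F : X.Modules) (M : Fin e → X.Modules) : ℤ :=
  (-1 : ℤ) ^ e * SurfInt.dn (SurfInt.chiCl k F) (fun j => PicF.cl (M j))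

theorem inum_zero (F : X.Modules) (M : Fin 0 → X.Modules) : inum k F M = Curv2.euler k X F := by
  rw [inum, SurfInt.dn_zero, SurfInt.chiCl_one, pow_zero, one_mul]

theorem inum_congr_iso {e : ℕ} {A B : X.Modules} (h : A ≅ B) (M : Fin e → X.Modules) :
    inum k A M = inum k B M := by rw [inum, inum, SurfInt.chiCl_congr k h]

theorem inum_eq_zero {e : ℕ} {M : Fin e → X.Modules} (hM : ∀ j, PicF.IsInvertible (M j)) {F : X.Modules}
    (hF : Coh.IsCoh F) (hd : topologicalKrullDim ↥(CohB1.support F) < (e : WithBot ℕ∞)) : inum k F M = 0 := by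
  rw [inum, SurfInt.dn_chiCl_eq_zero k hM hF hd, mul_zero]

theorem inum_add {e : ℕ} {M : Fin e → X.Modules} (hM : ∀ j, PicF.IsInvertible (M j))
    {S : ShortComplex X.Modules} (hS : S.ShortExact) (h1 : Coh.IsCoh S.X₁) (h2 : Coh.IsCoh S.X₂)
    (h3 : Coh.IsCoh S.X₃) : inum k S.X₂ M = inum k S.X₁ M + inum k S.X₃ M := by
  have := (Pic13Lib.additive_dn k hM).add S hS h1 h2 h3
  simp only [inum]
  rw [this, mul_add]

theorem cl_cons {e : ℕ} (A : X.Modules) (M : Fin e → X.Modules) :
    (fun j => PicF.cl ((Fin.cons A M : Fin (e + 1) → X.Modules) j)) =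
      Fin.cons (PicF.cl A) (fun j => PicF.cl (M j)) :=
  funext fun j => Fin.cases rfl (fun _ => rfl) j

theorem isInvertible_cons {e : ℕ} {A : X.Modules} {M : Fin e → X.Modules} (hA : PicF.IsInvertible A)
    (hM : ∀ j, PicF.IsInvertible (M j)) : ∀ j, PicF.IsInvertible ((Fin.cons A M : Fin (e + 1) → X.Modules) j) :=
  Fin.cases hA hM

theorem inum_cons_mul {e : ℕ} {A B C : X.Modules} {M : Fin e → X.Modules} (hA : PicF.IsInvertible A)
    (hB : PicF.IsInvertible B) (hC : PicF.cl A * PicF.cl B = PicF.cl C) (hM : ∀ j, PicF.IsInvertible (M j))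
    {F : X.Modules} (hF : Coh.IsCoh F) (hd : topologicalKrullDim ↥(CohB1.support F) ≤ ((e + 1 : ℕ) : WithBot ℕ∞)) :
    inum k F (Fin.cons C M) = inum k F (Fin.cons A M) + inum k F (Fin.cons B M) := by
  have h0 := SurfInt.dn_chiCl_eq_zero k (isInvertible_cons hA (isInvertible_cons hB hM)) hF
    (lt_of_le_of_lt hd (by exact_mod_cast Nat.lt_succ_self (e + 1)))
  simp only [cl_cons] at h0
  simp only [inum, cl_cons, ← hC, SurfInt.dn_cons_mul, h0, sub_zero, mul_add]

/-- Cutting lowers the intersection number by one variable. -/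
theorem inum_cons_cut {e : ℕ} {N : X.Modules} {M : Fin e → X.Modules} (hM : ∀ j, PicF.IsInvertible (M j))
    {S : ShortComplex X.Modules} (hS : S.ShortExact) (h1 : Coh.IsCoh S.X₁) (h2 : Coh.IsCoh S.X₂)
    (h3 : Coh.IsCoh S.X₃) (e2 : S.X₂ ≅ CohB1.tensorMod S.X₁ N) :
    inum k S.X₁ (Fin.cons N M) = inum k S.X₃ M := by
  have h := (Pic13Lib.additive_dn k hM).add S hS h1 h2 h3
  have he : SurfInt.chiCl k S.X₂ = fun x => SurfInt.chiCl k S.X₁ (PicF.cl N * x) := by
    rw [SurfInt.chiCl_congr k e2]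
    exact Pic13Lib.chiCl_tw k (N := N) S.X₁
  simp only [he] at h
  simp only [inum, cl_cons, SurfInt.dn_cons, pow_succ]
  rw [h]
  ring

section Cut

variable {Z : Scheme.{u}} (j : Z ⟶ X) [IsClosedImmersion j] [IsIntegral Z]
  {I : Z.Modules} (ι : I ⟶ Coh.structureModule Z) [Mono ι] (hI : Coh.IsCoh I) {d : ℕ}
  (hd : topologicalKrullDim ↥(closure ({j (genericPoint Z)} : Set X)) ≤ (d : WithBot ℕ∞))

include k ι hI hd in
/-- A piece cut by a module with sections everywhere. -/
theorem exists_cut_piece {N : X.Modules} (hN : SecAt N) :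
    ∃ S : ShortComplex X.Modules, S.ShortExact ∧ Coh.IsCoh S.X₁ ∧ Coh.IsCoh S.X₂ ∧ Coh.IsCoh S.X₃ ∧
      S.X₁ = (Coh.push j).obj I ∧ S.X₂ = CohB1.tensorMod S.X₁ N ∧
      topologicalKrullDim ↥(CohB1.support S.X₃) < (d : WithBot ℕ∞) := by
  haveI := CurveCohLib.isNoetherian_of_proper (k := k) (X := X)
  obtain ⟨s, hs⟩ := hN.2 (j (genericPoint Z))
  have hM := Posit43.isCoh_push_piece j hI
  have hMN : Coh.IsCoh (CohB1.tensorMod ((Coh.push j).obj I) N) :=
    AmpleVan.isCoh_tensor hM (AmpleVan.isCoh_invertible hN.1)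
  haveI := Posit43.mono_mulHom_piece j ι s hs
  exact ⟨ShortComplex.mk (HilbPoly.mulHom s ((Coh.push j).obj I)) (cokernel.π _) (cokernel.condition _),
    .mk' (ShortComplex.exact_of_g_is_cokernel _ (cokernelIsCokernel _)) ‹_› inferInstance, hM, hMN,
    QCoh.isCoh_cokernel hM.1 hMN _, rfl, rfl, Posit43.dimLT_cokernel_piece j ι hN.1 s hs hI hd⟩

end Cut

theorem euler_eq_h0 {F : X.Modules} (hF : Coh.IsCoh F)
    (hd : topologicalKrullDim ↥(CohB1.support F) ≤ ((0 : ℕ) : WithBot ℕ∞)) :
    (∀ i, 1 ≤ i → Subsingleton (Coh.HH X F i)) ∧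
      Curv2.euler k X F = (Module.finrank k (Coh.HH X F 0) : ℤ) := by
  haveI := CurveCohLib.isNoetherian_of_proper (k := k) (X := X)
  haveI : X.IsSeparated := AmpleVan.isSeparated_of_proper (A := k)
  have h := Snapper.subsingleton_HH_of_dim_lt 1 ⟨CohB1.support F, QCoh.isClosed_support_of_isFT hF.1 hF.2⟩
    (lt_of_le_of_lt hd (by exact_mod_cast Nat.zero_lt_one)) F hF.1 le_rfl
  refine ⟨h, ?_⟩
  rw [Euler.euler_eq_sum k F 1 h]
  simp

/-- Intersection numbers of modules with sections everywhere are nonnegative. -/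
theorem inum_nonneg : ∀ {e : ℕ} {M : Fin e → X.Modules}, (∀ j, SecAt (M j)) → ∀ {F : X.Modules},
    Coh.IsCoh F → topologicalKrullDim ↥(CohB1.support F) ≤ (e : WithBot ℕ∞) → 0 ≤ inum k F M
  | 0, M, _, F, hF, hd => by
    rw [inum_zero, (euler_eq_h0 k hF hd).2]
    exact Int.natCast_nonneg _
  | e + 1, M, hM, F, hF, hd => by
    haveI := CurveCohLib.isNoetherian_of_proper (k := k) (X := X)
    have hMi : ∀ j, PicF.IsInvertible (M j) := fun j => (hM j).1
    refine Posit43.devissage_pieces (fun A => 0 ≤ inum k A M)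
      (fun {A B} h hA => (inum_congr_iso k h M) ▸ hA) (fun {A} hA => ?_)
      (fun S hS h1 h2 h3 a c => by rw [inum_add k hMi hS h1 h2 h3]; exact add_nonneg a c)
      (T := CohB1.support F) ?_ hF le_rfl
    · have hz : inum k A M = 0 := by
        rcases eq_or_ne (inum k A M) 0 with h | h
        · exact h
        · exfalso
          refine h (inum_eq_zero k hMi (QCoh.isCoh_isZero hA hF) ?_)
          rw [QCoh.support_eq_empty_of_isZero hA (QCoh.isCoh_isZero hA hF).1]
          haveI : IsEmpty (IrreducibleCloseds ↥(∅ : Set X)) := ⟨fun t => t.2.1.some.2⟩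
          exact lt_of_eq_of_lt (Order.krullDim_eq_bot) (WithBot.bot_lt_coe _)
      exact hz.ge
    · intro Z j _ _ I ι _ hI _ hT
      obtain ⟨S, hS, h1, h2, h3, e1, e2, hlt⟩ := exists_cut_piece k j ι hI
        ((H23.TopDim.dim_le_dim_of_subset hT).trans hd) (hM 0)
      rw [← e1, ← Fin.cons_self_tail M]
      show 0 ≤ inum k S.X₁ (Fin.cons (M 0) fun l => M l.succ)
      rw [inum_cons_cut k (fun l => hMi l.succ) hS h1 h2 h3 (eqToIso e2)]
      exact inum_nonneg (M := fun l => M l.succ) (fun l => hM l.succ) h3 (SurfInt.le_of_lt_succ_dim hlt)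

theorem cl_multiTwist_add (L : Fin r → X.Modules) (a : Fin r → ℕ) (j : Fin r) :
    mclass L (a + Pi.single j 1) = mclass L a * PicF.cl (L j) := by
  classical
  simp only [mclass, Pi.add_apply, pow_add, Finset.prod_mul_distrib]
  congr 1
  rw [Fintype.prod_eq_single j fun l hl => by simp [hl]]
  simp

variable {k}

/-- The members of the family: each, or its inverse, has sections everywhere and divides `H`. -/
def Adapted (L : Fin r → X.Modules) (H : X.Modules) : Prop :=
  ∀ j, PicF.IsInvertible (L j) ∧ ∃ N N' : X.Modules, SecAt N ∧ SecAt N' ∧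
    (PicF.cl (L j) = PicF.cl N ∨ PicF.cl (L j) * PicF.cl N = 1) ∧ PicF.cl N * PicF.cl N' = PicF.cl H

variable (k) in
/-- Growth of cohomology bounded by the intersection number. -/
theorem hm_le_inum {L : Fin r → X.Modules} {H : X.Modules} (hL : Adapted L H) (hH : SecAt H) :
    ∀ (e : ℕ) {F : X.Modules}, Coh.IsCoh F → topologicalKrullDim ↥(CohB1.support F) ≤ (e : WithBot ℕ∞) →
      ∀ i, ∃ g, GrowLtM e g ∧ ∀ a,
        hm k L F i a ≤ (inum k F (fun _ : Fin e => H)).toNat * (∑ l, a l) ^ e + g a := by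
  haveI := CurveCohLib.isNoetherian_of_proper (k := k) (X := X)
  have hLi : ∀ j, PicF.IsInvertible (L j) := fun j => (hL j).1
  intro e
  induction e with
  | zero =>
    intro F hF hd i
    refine ⟨fun _ => 0, fun _ => rfl, fun a => ?_⟩
    have hP := isInvertible_multiTwist hLi a
    have hFP : Coh.IsCoh (CohB1.tensorMod F (FGA.multiTwist L a)) :=
      AmpleVan.isCoh_tensor hF (AmpleVan.isCoh_invertible hP)
    obtain ⟨hv, he⟩ := euler_eq_h0 k hFP
      ((H23.TopDim.dim_le_dim_of_subset (HilbPoly.support_tensor_subset _ _)).trans hd)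
    have hchi : Curv2.euler k X (CohB1.tensorMod F (FGA.multiTwist L a)) = inum k F (fun _ : Fin 0 => H) := by
      have h0 := SurfInt.dn_chiCl_eq_zero k (M := ![FGA.multiTwist L a]) (Fin.cases hP fun l => l.elim0) hF
        (lt_of_le_of_lt hd (by exact_mod_cast Nat.zero_lt_one))
      rw [show (fun l => PicF.cl (![FGA.multiTwist L a] l)) = ![PicF.cl (FGA.multiTwist L a)] from
        funext fun l => by fin_cases l; rfl, SurfInt.dn_one, SurfInt.chiCl_one, SurfInt.chiCl_cl,
        SurfInt.euler_comm, sub_eq_zero] at h0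
      rw [inum_zero, h0]
    rw [hm_eq, pow_zero, mul_one, add_zero, ← hchi, he, Int.toNat_natCast]
    cases i with
    | zero => exact le_rfl
    | succ i =>
      haveI : Subsingleton (Coh.HH X ((AmpleVan.tw (FGA.multiTwist L a)).obj F) (i + 1)) :=
        hv (i + 1) (Nat.succ_pos i)
      exact (Module.finrank_zero_of_subsingleton (R := k)).le.trans (Nat.zero_le _)
  | succ e ih =>
    intro F hF hd
    refine (Posit43.devissage_pieces (fun A => topologicalKrullDim ↥(CohB1.support A) ≤ ((e + 1 : ℕ) : WithBot ℕ∞) →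
      Coh.IsCoh A → ∀ i, ∃ g, GrowLtM (e + 1) g ∧ ∀ a,
        hm k L A i a ≤ (inum k A (fun _ : Fin (e + 1) => H)).toNat * (∑ l, a l) ^ (e + 1) + g a)
      ?_ ?_ ?_ (T := CohB1.support F) ?_ hF le_rfl) hd hF
    · intro A B h hA hdB hB i
      have hAc : Coh.IsCoh A := QCoh.isCoh_of_mono h.hom hB ((QCoh.isQCoh_iff_iso h).2 hB.1)
      obtain ⟨g, hg, hb⟩ := hA (by rwa [QCoh.support_iso h hAc.1]) hAc i
      refine ⟨g, hg, fun a => ?_⟩
      rw [← inum_congr_iso k h, show hm k L B i a = hm k L A i a by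
        simp only [hm]; rw [H23.PicMul.cl_eq_iff.2 ⟨h⟩]]
      exact hb a
    · intro A hA _ _ i
      refine ⟨fun _ => 0, growLtM_zero _, fun a => ?_⟩
      haveI := AmpleVan.isEquivalence_tw (isInvertible_multiTwist hLi a)
      haveI := Euler.subsingleton_HH_of_isZero ((AmpleVan.tw (FGA.multiTwist L a)).map_isZero hA) i
      rw [hm_eq]
      exact (Module.finrank_zero_of_subsingleton (R := k)).le.trans (Nat.zero_le _)
    · intro S hS h1 h2 h3 a c hd2 _ i
      have d1 : topologicalKrullDim ↥(CohB1.support S.X₁) ≤ ((e + 1 : ℕ) : WithBot ℕ∞) :=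
        haveI := hS.mono_f
        (H23.TopDim.dim_le_dim_of_subset (QCoh.mem_support_of_mono h1.1 h2.1 S.f)).trans hd2
      have d3 : topologicalKrullDim ↥(CohB1.support S.X₃) ≤ ((e + 1 : ℕ) : WithBot ℕ∞) :=
        haveI := hS.epi_g
        (H23.TopDim.dim_le_dim_of_subset (QCoh.support_of_epi h2.1 h3.1 S.g)).trans hd2
      obtain ⟨g₁, hg₁, b₁⟩ := a d1 h1 i
      obtain ⟨g₃, hg₃, b₃⟩ := c d3 h3 i
      refine ⟨fun t => g₁ t + g₃ t, hg₁.add hg₃, fun t => ?_⟩
      dsimp only
      rw [inum_add k (fun _ => hH.1) hS h1 h2 h3,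
        Int.toNat_add (inum_nonneg k (fun _ => hH) h1 d1) (inum_nonneg k (fun _ => hH) h3 d3), add_mul]
      have := (multi_bounds k hLi hS h1 h2 h3 i t).1
      have := b₁ t
      have := b₃ t
      omega
    · intro Z j _ _ I ι _ hI _ hT hdM hMc i
      have hZ := (H23.TopDim.dim_le_dim_of_subset hT).trans hd
      have key : ∀ l, ∃ g, GrowLtM e g ∧ ∀ a, hm k L ((Coh.push j).obj I) i (a + Pi.single l 1) ≤
          hm k L ((Coh.push j).obj I) i a +
            (inum k ((Coh.push j).obj I) (fun _ : Fin (e + 1) => H)).toNat * ((∑ t, a t) + 1) ^ e + g a := by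
        intro l
        obtain ⟨-, N, N', hN, hN', hor, hNH⟩ := hL l
        obtain ⟨S, hS, h1, h2, h3, e1, e2, hlt⟩ := exists_cut_piece k j ι hI hZ hN
        have d3 := SurfInt.le_of_lt_succ_dim hlt
        have hle : (inum k S.X₃ (fun _ : Fin e => H)).toNat ≤
            (inum k ((Coh.push j).obj I) (fun _ : Fin (e + 1) => H)).toNat := by
          refine Int.toNat_le_toNat ?_
          have hcons : (fun _ : Fin (e + 1) => H) = Fin.cons H (fun _ : Fin e => H) :=
            funext fun t => Fin.cases rfl (fun _ => rfl) t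
          rw [← inum_cons_cut k (fun _ => hH.1) hS h1 h2 h3 (eqToIso e2), hcons,
            inum_cons_mul k hN.1 hN'.1 hNH (fun _ => hH.1) hMc hdM, e1]
          exact le_add_of_nonneg_right (inum_nonneg k (Fin.cases hN' fun _ => hH) hMc hdM)
        have e2' : ∀ a, hm k L S.X₂ i a = hc k i (PicF.cl ((Coh.push j).obj I) * PicF.cl N * mclass L a) := by
          intro a
          rw [hm, e2, H23.PicMul.cl_tensor, e1]
        rcases hor with h | h
        · obtain ⟨g, hg, hb⟩ := ih h3 d3 i
          refine ⟨g, hg, fun a => ?_⟩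
          have hx : hm k L ((Coh.push j).obj I) i (a + Pi.single l 1) = hm k L S.X₂ i a := by
            rw [e2', hm, cl_multiTwist_add, h]
            congr 1
            ac_rfl
          have := (multi_bounds k hLi hS h1 h2 h3 i a).1
          have := hb a
          have : (inum k S.X₃ (fun _ : Fin e => H)).toNat * (∑ t, a t) ^ e ≤
              (inum k ((Coh.push j).obj I) (fun _ : Fin (e + 1) => H)).toNat * ((∑ t, a t) + 1) ^ e :=
            Nat.mul_le_mul hle (Nat.pow_le_pow_left (Nat.le_succ _) _)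
          rw [hx, ← e1] at *
          omega
        · obtain ⟨g, hg, hb⟩ := ih h3 d3 (i - 1)
          refine ⟨fun a => g (a + Pi.single l 1), growLtM_shift hg l, fun a => ?_⟩
          dsimp only
          have hx : hm k L ((Coh.push j).obj I) i a = hm k L S.X₂ i (a + Pi.single l 1) := by
            rw [e2', hm, cl_multiTwist_add, show PicF.cl ((Coh.push j).obj I) * PicF.cl N *
              (mclass L a * PicF.cl (L l)) = PicF.cl ((Coh.push j).obj I) * mclass L a *
              (PicF.cl (L l) * PicF.cl N) by ac_rfl, h, mul_one]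
          have hb' := hb (a + Pi.single l 1)
          have hsum : (∑ t, (a + Pi.single l 1 : Fin r → ℕ) t) = (∑ t, a t) + 1 := by
            simp [Finset.sum_add_distrib]
          rw [hsum] at hb'
          have : (inum k S.X₃ (fun _ : Fin e => H)).toNat * ((∑ t, a t) + 1) ^ e ≤
              (inum k ((Coh.push j).obj I) (fun _ : Fin (e + 1) => H)).toNat * ((∑ t, a t) + 1) ^ e :=
            Nat.mul_le_mul_right _ hle
          rw [hx, ← e1] at *
          obtain ⟨-, u, v, -⟩ := multi_bounds k hLi hS h1 h2 h3 (i - 1) (a + Pi.single l 1)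
          rcases Nat.eq_zero_or_pos i with hi | hi
          · subst hi
            omega
          · rw [show i - 1 + 1 = i by omega] at v
            omega
      choose g hg hb using key
      exact exists_bound_of_step (growLtM_sum Finset.univ g fun l _ => hg l) fun a l =>
        (hb l a).trans (Nat.add_le_add_left
          (Finset.single_le_sum (f := fun t => g t a) (fun _ _ => Nat.zero_le _) (Finset.mem_univ l)) _)

end Groth.Agent.VarNum31
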