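import Groth.Agent.VarNum31.Sect
import Groth.Agent.AmpleX.Pow
import Groth.Agent.AmpleX.QuasiAffine
import Groth.Agent.Lib.AVProj
import Groth.Agent.VarGrow31.Multi

/-!
# Negative twists of numerically trivial modules have no more sections than the structure sheaf
-/

set_option linter.style.haveILetI false
set_option linter.unusedSectionVars false
set_option backward.isDefEq.respectTransparency false
set_option backward.isDefEq.respectTransparency.types false
set_option maxHeartbeats 1000000

universe u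

open CategoryTheory CategoryTheory.Limits AlgebraicGeometry TopologicalSpace Opposite
open scoped Groth.Agent.H23.PicMul

noncomputable section

namespace Groth.Agent.VarNum31

open Groth.Agent Groth.Agent.Pic13Lib

variable {k : Type u} [Field k] {n : ℕ}

theorem cl_tensorPow_oX {X : Scheme.{u}} (i : X ⟶ CohB1.ProjSpace n k) (r : ℕ) :
    PicF.cl (CohB1.tensorPow (oX i 1) r) = PicF.cl (oX i (r : ℤ)) := by
  rw [H23.PicMul.cl_tensorPow]
  induction r with
  | zero => rw [pow_zero, Nat.cast_zero, cl_oX_zero]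
  | succ r ih => rw [pow_succ, ih, Nat.cast_succ, cl_oX_add]

theorem notMem_zero {X : Scheme.{u}} {L : X.Modules} {s : Coh.structureModule X ⟶ L} {x : X}
    (h : x ∈ CohB1.genLocus L s) : s ≠ 0 := fun e => notMem_genLocus_zero L x (e ▸ h)

theorem genLocus_eq_top_of_isIso {X : Scheme.{u}} {L : X.Modules} (s : Coh.structureModule X ⟶ L) [IsIso s] :
    CohB1.genLocus L s = ⊤ :=
  top_le_iff.1 (le_sSup (show IsIso ((Scheme.Modules.restrictFunctor (⊤ : X.Opens).ι).map s) from inferInstance))

variable {Z : Scheme.{u}} [Z.Over (Spec (CommRingCat.of k))] [IsProper (Z ↘ Spec (CommRingCat.of k))]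
  [IsIntegral Z] (i : Z ⟶ CohB1.ProjSpace n k) [IsClosedImmersion i]

/-- A negative twist of a numerically trivial module with a nonzero section lives on a point. -/
theorem subsingleton_of_section {P : Z.Modules} (hP : NumTriv k P) {r : ℕ} (hr : 0 < r)
    (σ : Coh.structureModule Z ⟶ CohB1.tensorMod P (oX i (-(r : ℤ)))) (hσ : σ ≠ 0) : Subsingleton Z := by
  obtain ⟨s, hs⟩ := exists_section_oX i (genericPoint Z)
  have hH := isInvertible_oX i 1
  have hQ := H23.PicMul.isInvertible_tensor hP.1 (isInvertible_oX i (-(r : ℤ)))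
  have hσg := genericPoint_mem_genLocus hQ σ hσ
  obtain ⟨r, rfl⟩ : ∃ r', r = r' + 1 := ⟨r - 1, by omega⟩
  have hg := InvX.genLocus_powHom hH s r
  have hprod := InvX.genLocus_mulHom hQ (InvX.isInvertible_tensorPow hH (r + 1)) σ (InvX.powHom s (r + 1))
  have hcl : PicF.cl (CohB1.tensorMod (CohB1.tensorMod P (oX i (-((r + 1 : ℕ) : ℤ))))
      (CohB1.tensorPow (oX i 1) (r + 1))) = PicF.cl P := by
    rw [H23.PicMul.cl_tensor, H23.PicMul.cl_tensor, cl_tensorPow_oX, mul_assoc, ← cl_oX_add, neg_add_cancel,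
      cl_oX_zero, mul_one]
  obtain ⟨τ, hτ⟩ := AmpleX.exists_section_of_cl_eq hcl (InvX.mulHom σ (InvX.powHom s (r + 1)))
  rw [hprod, hg] at hτ
  have hτg : genericPoint Z ∈ CohB1.genLocus P τ := by rw [hτ]; exact ⟨hσg, hs⟩
  haveI := isIso_of_isNumEquivZero hP.1 hP.2 τ (notMem_zero hτg)
  rw [genLocus_eq_top_of_isIso τ] at hτ
  have hstop : CohB1.genLocus (oX i 1) s = ⊤ := top_le_iff.1 (hτ.le.trans inf_le_right)
  haveI := isIso_of_genLocus_eq_top s hstop
  haveI : CompactSpace Z := QuasiCompact.compactSpace_of_compactSpace (Z ↘ Spec (CommRingCat.of k))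
  have hamp : CohB1.IsAmple (Coh.structureModule Z) :=
    AmpleX.isAmple_of_iso (asIso s).symm (isAmple_oX_one i)
  haveI := AmpleX.isQuasiAffine_of_isAmple hamp
  haveI := AVProj.finite_of_isProper_quasiAffine (Z ↘ Spec (CommRingCat.of k))
  haveI : T1Space Z := by
    haveI : JacobsonSpace Z := LocallyOfFiniteType.jacobsonSpace (Z ↘ Spec (CommRingCat.of k))
    have hc : IsClosed (closedPoints (Z : Type u)) := by
      rw [← Set.biUnion_of_singleton (closedPoints (Z : Type u))]
      exact (Set.toFinite _).isClosed_biUnion fun x hx => mem_closedPoints_iff.1 hx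
    refine ⟨fun x => mem_closedPoints_iff.1 ?_⟩
    rw [← hc.closure_eq, closure_closedPoints]
    trivial
  exact ⟨fun a b => by
    have ha : a = genericPoint Z := ((genericPoint_specializes a).eq).symm
    have hb : b = genericPoint Z := ((genericPoint_specializes b).eq).symm
    rw [ha, hb]⟩

/-- The uniform bound on sections. -/
theorem finrank_h0_neg_le {P : Z.Modules} (hP : NumTriv k P) {t : ℤ} (ht : t < 0) :
    Module.finrank k (Coh.HH Z (CohB1.tensorMod P (oX i t)) 0) ≤
      Module.finrank k (Coh.HH Z (Coh.structureModule Z) 0) := by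
  rcases subsingleton_or_nontrivial (Coh.HH Z (CohB1.tensorMod P (oX i t)) 0) with h | h
  · rw [Module.finrank_zero_of_subsingleton (R := k) (M := Coh.HH Z (CohB1.tensorMod P (oX i t)) 0)]
    exact Nat.zero_le _
  obtain ⟨σ, hσ⟩ := SurfInt.exists_section_ne_zero h
  obtain ⟨r, rfl, hr⟩ : ∃ r : ℕ, t = -(r : ℤ) ∧ 0 < r := ⟨(-t).toNat, by omega, by omega⟩
  haveI := subsingleton_of_section i hP hr σ hσ
  haveI : Nonempty Z := inferInstance
  obtain ⟨e⟩ := Pn90.exists_iso_free_of_subsingleton (InvEnd.isFinLocFreeOfRank_one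
    (H23.PicMul.isInvertible_tensor hP.1 (isInvertible_oX i (-(r : ℤ)))))
  exact (HilbPoly.finrank_HH_iso k (e ≪≫ (coproductUniqueIso _)) 0).le

end Groth.Agent.VarNum31
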